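import Groth.Agent.GrpSubRep.Main
import Groth.Agent.SpQS.ConfStrat
import Groth.Agent.MultT.PiChart
import Groth.Prelude.Def_RedSub

/-!
# The fibres of the universal finite subgroup of multiplicative type
-/

set_option autoImplicit false
set_option linter.style.haveILetI false
set_option linter.unusedSectionVars false
set_option backward.isDefEq.respectTransparency false
set_option maxHeartbeats 1000000
set_option synthInstance.maxHeartbeats 400000

universe u

open CategoryTheory Limits MonoidalCategory CartesianMonoidalCategory AlgebraicGeometry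
open scoped CategoryTheory.Obj MonObj

noncomputable section

namespace Groth.Agent.GrpSubRep

open Groth.Agent.MTBridge

variable {S : Scheme.{u}} {G : Over S} [GrpObj G]

/-- Subgroups with the same points are isomorphic. -/
theorem nonempty_grpIso_of_inK_iff {M : Over S} {K₁ K₂ : Over M.left} [GrpObj K₁] [GrpObj K₂]
    (j₁ : K₁ ⟶ Red.bc M.hom G) (j₂ : K₂ ⟶ Red.bc M.hom G) [IsMonHom j₁] [IsMonHom j₂] [Mono j₁] [Mono j₂]
    (h : ∀ (X : Over S) (g : X ⟶ G) (t : X ⟶ M), InK j₁ g t ↔ InK j₂ g t) :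
    Nonempty (Grp.mk K₁ ≅ Grp.mk K₂) := by
  have fac : ∀ {K K' : Over M.left} (j : K ⟶ Red.bc M.hom G) (j' : K' ⟶ Red.bc M.hom G),
      (∀ (X : Over S) (g : X ⟶ G) (t : X ⟶ M), InK j g t → InK j' g t) → ∃ k : K ⟶ K', k ≫ j' = j := by
    intro K K' j j' hh
    obtain ⟨a, ha⟩ := exists_toBC' M.hom j
    have key : j.left = pt₂ a (str M.hom K) := by
      rw [← ha]
      apply pullback.hom_ext
      · rw [MTDescent.left_toBC_fst_eq]
        exact (pullback.lift_fst _ _ _).symm
      · exact (Over.w (toBC M.hom a)).trans (pullback.lift_snd _ _ _).symm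
    obtain ⟨l, hl⟩ := hh _ a (str M.hom K) ⟨𝟙 K.left, (Category.id_comp _).trans key⟩
    exact ⟨Over.homMk l (inK_hom j' hl), Over.OverMorphism.ext (hl.trans key.symm)⟩
  obtain ⟨k, hk⟩ := fac j₁ j₂ fun X g t => (h X g t).1
  obtain ⟨k', hk'⟩ := fac j₂ j₁ fun X g t => (h X g t).2
  let e : K₁ ≅ K₂ := ⟨k, k', by rw [← cancel_mono j₁, Category.assoc, hk', hk, Category.id_comp],
    by rw [← cancel_mono j₂, Category.assoc, hk, hk', Category.id_comp]⟩
  haveI : IsMonHom k := isMonHom_of_points _ fun X x y => by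
    rw [← cancel_mono j₂, Category.assoc, hk, MonObj.mul_comp, MonObj.mul_comp, Category.assoc, Category.assoc, hk]
  haveI : IsMonHom e.hom := inferInstanceAs (IsMonHom k)
  exact ⟨Grp.mkIso' e⟩

section Universal

variable [IsAffineHom G.hom] [LocallyOfFinitePresentation G.hom]

/-- The type of a point. -/
def typ (m : (Par G).left) : Typ.{u} := ((sigmaMk fun i : Typ.{u} => (piece G i).Mo.left).symm m).1

/-- The component of a type. -/
def comp (G : Over S) [GrpObj G] [IsAffineHom G.hom] [LocallyOfFinitePresentation G.hom] (i : Typ.{u}) :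
    (Par G).left.Opens :=
  (Sigma.ι (fun i : Typ.{u} => (piece G i).Mo.left) i).opensRange

theorem mem_comp_iff (i : Typ.{u}) (m : (Par G).left) : m ∈ comp G i ↔ typ m = i := by
  let σ := sigmaMk fun i : Typ.{u} => (piece G i).Mo.left
  constructor
  · rintro ⟨y, hy⟩
    have h1 : m = σ ⟨i, y⟩ := hy.symm.trans (sigmaMk_mk (fun i : Typ.{u} => (piece G i).Mo.left) i y).symm
    rw [typ, h1, σ.symm_apply_apply]
  · rintro rfl
    refine ⟨(σ.symm m).2, ?_⟩
    show Sigma.ι (fun i : Typ.{u} => (piece G i).Mo.left) (σ.symm m).1 (σ.symm m).2 = m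
    rw [← sigmaMk_mk (fun i : Typ.{u} => (piece G i).Mo.left) (σ.symm m).1 (σ.symm m).2]
    exact σ.apply_symm_apply m

variable [hgr : GrpObj (UK G)] [IsMonHom (uj G)] [IsImmersion (uj G).left]

/-- The pullback of the universal subgroup. -/
abbrev pullUK {P : Over S} (v : P ⟶ Par G) : Red.bc v.left (UK G) ⟶ Red.bc P.hom G :=
  MTDescent.pullMap (uj G) v

theorem mono_pullUK {P : Over S} (v : P ⟶ Par G) : Mono (pullUK v) := by
  haveI := MTDescent.isImmersion_pullMap (uj G) v
  exact (Over.forget _).mono_of_mono_map (inferInstanceAs (Mono (pullUK v).left))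

/-- The universal subgroup over the scheme of monomorphisms is diagonalisable. -/
theorem nonempty_iso_DS {i : Typ.{u}} {P : Over S} (a : P ⟶ (piece G i).U) :
    Nonempty (Grp.mk (Red.bc (a ≫ (piece G i).p ≫ inc (fun i => (piece G i).Mo) i).left (UK G)) ≅
      Grp.mk (Red.DS P.left i.Car)) := by
  let v : P ⟶ Par G := a ≫ (piece G i).p ≫ inc (fun i => (piece G i).Mo) i
  let φ := (Red.DS S i.Car ◁ a) ≫ (piece G i).υ
  let w : Red.bc P.hom (Red.DS S i.Car) ⟶ Red.bc P.hom G := homMap P.hom φ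
  have hw := isMonHom_homMap P.hom (φ := φ) (HomDiag.isHomFamily_restrict (piece G i).isHom a)
  haveI : IsMonHom w := hw
  haveI : Mono w := (isMonoFam_iff P.hom φ).1 ((piece G i).mono.restrict a)
  have hp := MTDescent.isMonHom_pullMap (uj G) v
  haveI : IsMonHom (pullUK v) := hp
  haveI := mono_pullUK v
  obtain ⟨e⟩ := nonempty_grpIso_of_inK_iff (pullUK v) w fun X g t => by
    have h2 : InIm φ g t ↔ InIm (piece G i).υ g (t ≫ a) :=
      exists_congr fun z => by simp only [φ, lift_whiskerLeft_assoc]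
    refine (inK_pullMap_iff (uj G) v g t).trans ?_
    rw [show t ≫ v = (t ≫ a) ≫ (piece G i).p ≫ inc (fun i => (piece G i).Mo) i from (Category.assoc _ _ _).symm,
      inK_uj_iff, ← h2]
    exact (inK_homMap_iff P.hom φ g t).symm
  exact ⟨e ≪≫ bcDS P.hom i.Car⟩

variable {Ω : Type u} [Field Ω] [IsAlgClosed Ω]

/-- Geometric fibres are the diagonalisable groups of their type. -/
theorem nonempty_iso_DS_geom {c : Spec (CommRingCat.of Ω) ⟶ S} (v : Over.mk c ⟶ Par G) :
    Nonempty (Grp.mk (Red.bc v.left (UK G)) ≅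
      Grp.mk (Red.DS (Spec (CommRingCat.of Ω)) (typ (v.left (IsLocalRing.closedPoint Ω))).Car)) := by
  generalize hi : typ (v.left (IsLocalRing.closedPoint Ω)) = i
  let ιi := Sigma.ι (fun i : Typ.{u} => (piece G i).Mo.left) i
  have hr : Set.range v.left ⊆ Set.range ιi := by
    rintro _ ⟨z, rfl⟩
    rw [Subsingleton.elim (α := PrimeSpectrum Ω) z (IsLocalRing.closedPoint Ω)]
    exact (mem_comp_iff i _).2 hi
  let l₀ := IsOpenImmersion.lift ιi v.left hr
  haveI := (piece G i).etale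
  haveI := (piece G i).surjective
  obtain ⟨x, hx⟩ := (piece G i).p.left.surjective (l₀ (IsLocalRing.closedPoint Ω))
  obtain ⟨l, hl⟩ := SpQS.exists_lift_of_etale (piece G i).p.left l₀ hx
  let a : Over.mk c ⟶ (piece G i).U := Over.homMk l (by
    show l ≫ (piece G i).U.hom = c
    rw [← Over.w (piece G i).p, reassoc_of% hl, ← Over.w (inc (fun i => (piece G i).Mo) i)]
    show l₀ ≫ ιi ≫ _ = c
    rw [IsOpenImmersion.lift_fac_assoc]
    exact Over.w v)
  have hv : v = a ≫ (piece G i).p ≫ inc (fun i => (piece G i).Mo) i := Over.OverMorphism.ext (by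
    show v.left = l ≫ (piece G i).p.left ≫ ιi
    rw [reassoc_of% hl, IsOpenImmersion.lift_fac])
  rw [hv]
  exact nonempty_iso_DS a

omit [IsAlgClosed Ω] in
/-- Diagonalisable groups over a field determine their characters. -/
theorem nonempty_addEquiv_of_iso {A B : Type} [AddCommGroup A] [AddCommGroup B]
    (e : Grp.mk (Red.DS (Spec (CommRingCat.of Ω)) A) ≅ Grp.mk (Red.DS (Spec (CommRingCat.of Ω)) B)) :
    Nonempty (A ≃+ B) := by
  obtain ⟨eA⟩ := nonempty_DS_iso Ω A
  obtain ⟨eB⟩ := nonempty_DS_iso Ω B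
  obtain ⟨θ⟩ := nonempty_bialgEquiv (eA.symm ≪≫ e ≪≫ eB)
  let uA : ULift.{u} (Multiplicative A) ≃* Multiplicative A := MulEquiv.ulift
  let uB : ULift.{u} (Multiplicative B) ≃* Multiplicative B := MulEquiv.ulift
  obtain ⟨mu⟩ := MultT.nonempty_mulEquiv ((MonoidAlgebra.domCongrBialgEquiv Ω Ω uB).trans
    (θ.trans (MonoidAlgebra.domCongrBialgEquiv Ω Ω uA.symm)))
  exact ⟨(MulEquiv.toAdditive (uA.symm.trans (mu.symm.trans uB)) : A ≃+ B)⟩

/-- Geometric fibres are isomorphic iff their types agree. -/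
theorem nonempty_iso_iff_typ {c : Spec (CommRingCat.of Ω) ⟶ S} (v₁ v₂ : Over.mk c ⟶ Par G) :
    Nonempty (Grp.mk (Red.bc v₁.left (UK G)) ≅ Grp.mk (Red.bc v₂.left (UK G))) ↔
      typ (v₁.left (IsLocalRing.closedPoint Ω)) = typ (v₂.left (IsLocalRing.closedPoint Ω)) := by
  obtain ⟨e₁⟩ := nonempty_iso_DS_geom v₁
  obtain ⟨e₂⟩ := nonempty_iso_DS_geom v₂
  constructor
  · rintro ⟨e⟩
    obtain ⟨f⟩ := nonempty_addEquiv_of_iso (e₁.symm ≪≫ e ≪≫ e₂)
    exact Typ.eq_of_equiv f
  · intro h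
    rw [h] at e₁
    exact ⟨e₁ ≪≫ e₂.symm⟩

end Universal

/-- Finiteness of a group of multiplicative type is detected on points. -/
theorem isFinite_of_points {K : Over S} [GrpObj K] (hK : SGA3x.IsMultTypeFT K)
    (h : ∀ s : S, ∃ (Z : Scheme.{u}) (c : Z ⟶ S), s ∈ Set.range c ∧ IsFinite (Red.bc c K).hom) :
    IsFinite K.hom := by
  obtain ⟨S', π, hπ, hπs, hlift, hloc⟩ := hK
  choose U hU M hM hMfg e using hloc
  have h1 : IsFinite (pullback.snd K.hom π) := by
    rw [IsZariskiLocalAtTarget.iff_of_iSup_eq_top (P := @IsFinite.{u}) U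
      (eq_top_iff.2 fun x _ => TopologicalSpace.Opens.mem_iSup.2 ⟨x, hU x⟩)]
    intro x
    obtain ⟨Z, c, ⟨z₀, hz₀⟩, hc⟩ := h (π x)
    obtain ⟨y, hy₁, -⟩ := Scheme.Pullback.exists_preimage_pullback (f := c) (g := (U x).ι ≫ π) z₀ ⟨x, hU x⟩ hz₀
    let P := pullback c ((U x).ι ≫ π)
    haveI : Nonempty P := ⟨y⟩
    haveI hP : IsFinite (Red.bc (pullback.fst c ((U x).ι ≫ π)) (Red.bc c K)).hom :=
      MorphismProperty.pullback_snd _ _ hc
    obtain ⟨d⟩ := nonempty_bc_split (H := K) (e x) (pullback.snd c ((U x).ι ≫ π))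
    let d' : Grp.mk (Red.DS P (M x)) ≅ Grp.mk (Red.bc (pullback.fst c ((U x).ι ≫ π)) (Red.bc c K)) :=
      d.symm ≪≫ bcCongr pullback.condition.symm K ≪≫ bcComp c (pullback.fst c ((U x).ι ≫ π)) K
    haveI : IsIso d'.hom.hom.hom.left :=
      inferInstanceAs (IsIso ((Over.forget _).map ((Grp.forget _).map d'.hom)))
    haveI : Finite (M x) := finite_of_isFinite_DS (U := P) (by
      rw [show (Red.DS P (M x)).hom =
        d'.hom.hom.hom.left ≫ (Red.bc (pullback.fst c ((U x).ι ≫ π)) (Red.bc c K)).hom from (Over.w d'.hom.hom.hom).symm]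
      infer_instance)
    obtain ⟨ex⟩ := e x
    haveI := (isFinite_DS (U x : Scheme.{u}) (M x)).1
    have h2 : IsFinite (pullback.snd K.hom ((U x).ι ≫ π)) := by
      rw [show pullback.snd K.hom ((U x).ι ≫ π) =
        ex.hom.hom.hom.left ≫ (Red.DS (U x : Scheme.{u}) (M x)).hom from (Over.w ex.hom.hom.hom).symm]
      haveI : IsIso ex.hom.hom.hom.left :=
        inferInstanceAs (IsIso ((Over.forget _).map ((Grp.forget _).map ex.hom)))
      infer_instance
    have h3 := (isPullback_morphismRestrict (pullback.snd K.hom π) (U x)).flip.paste_horiz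
      (IsPullback.of_hasPullback K.hom π)
    rw [← h3.isoPullback_hom_snd]
    infer_instance
  rw [IsZariskiLocalAtTarget.iff_of_iSup_eq_top (P := @IsFinite.{u}) _ (iSup_affineOpens_eq_top S)]
  intro V
  obtain ⟨W, hW, hWV⟩ := hlift V.1 V.2
  have hle : W ≤ π ⁻¹ᵁ V.1 := fun w hw => hWV.subset ⟨w, hw, rfl⟩
  let g : (W : Scheme.{u}) ⟶ (V.1 : Scheme.{u}) := π.resLE V.1 W hle
  haveI : CompactSpace W := isCompact_iff_compactSpace.1 hW
  haveI : IsAffine (V.1 : Scheme.{u}) := V.2
  haveI : Surjective g := ⟨fun v => by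
    obtain ⟨w, hw, hwv⟩ := hWV.ge v.2
    refine ⟨⟨w, hw⟩, Subtype.ext ?_⟩
    rw [← hwv]
    show (g ≫ V.1.ι) ⟨w, hw⟩ = _
    rw [Scheme.Hom.resLE_comp_ι]
    rfl⟩
  haveI : Flat g := by
    haveI : Flat (g ≫ V.1.ι) := by rw [Scheme.Hom.resLE_comp_ι]; infer_instance
    exact MorphismProperty.of_postcomp (W' := @IsOpenImmersion) _ g V.1.ι inferInstance ‹_›
  haveI : QuasiCompact g := quasiCompact_of_compactSpace g
  refine MorphismProperty.of_pullback_snd_of_descendsAlong (P := @IsFinite)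
    (Q := @Surjective ⊓ @Flat ⊓ @QuasiCompact) (g := g) ⟨⟨‹_›, ‹_›⟩, ‹_›⟩ ?_
  haveI := h1
  have hsq : IsPullback ((K.hom ⁻¹ᵁ V.1).ι) (K.hom ∣_ V.1) K.hom V.1.ι :=
    (isPullback_morphismRestrict K.hom V.1).flip
  have h3 := (IsPullback.of_hasPullback (K.hom ∣_ V.1) g).paste_horiz hsq
  rw [Scheme.Hom.resLE_comp_ι] at h3
  haveI : IsFinite (pullback.snd K.hom (W.ι ≫ π)) := by
    have h4 := (IsPullback.of_hasPullback (pullback.snd K.hom π) W.ι).paste_horiz (IsPullback.of_hasPullback K.hom π)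
    rw [← h4.isoPullback_inv_snd]
    haveI : IsFinite (pullback.snd (pullback.snd K.hom π) W.ι) := MorphismProperty.pullback_snd _ _ h1
    infer_instance
  rw [← h3.isoPullback_hom_snd]
  infer_instance

/-- Having the same points, in terms of the predicate. -/
theorem samePoints_iff {S' : Scheme.{u}} (f : S' ⟶ S) {H' : Over S'} (h' : H' ⟶ Red.bc f G) {M : Over S}
    {K : Over M.left} (j : K ⟶ Red.bc M.hom G) (g : S' ⟶ M.left) (hg : g ≫ M.hom = f) :
    RedSub.SamePoints G f h' M j g ↔ ∀ (X : Over S) (gp : X ⟶ G) (t : X ⟶ Over.mk f),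
      InK (M := Over.mk f) h' gp t ↔ InK j gp (t ≫ (Over.homMk g hg : Over.mk f ⟶ M)) := by
  have h1 : ∀ {X : Over S} (gp : X ⟶ G) (t : X ⟶ Over.mk f),
      InK (M := Over.mk f) h' gp t ↔ ∃ p, p ≫ H'.hom = t.left ∧ p ≫ h'.left ≫ pullback.fst G.hom f = gp.left := by
    intro X gp t
    constructor
    · rintro ⟨l, hl⟩
      refine ⟨l, inK_hom (M := Over.mk f) h' hl, ?_⟩
      rw [← Category.assoc, hl]
      exact pullback.lift_fst _ _ _
    · rintro ⟨p, hp, hpgp⟩
      refine ⟨p, pullback.hom_ext ?_ ?_⟩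
      · exact (Category.assoc _ _ _).trans (hpgp.trans (pullback.lift_fst _ _ _).symm)
      · exact ((Category.assoc _ _ _).trans (congrArg (p ≫ ·) (Over.w h'))).trans
          (hp.trans (pullback.lift_snd _ _ _).symm)
  have h2 : ∀ {X : Over S} (gp : X ⟶ G) (t : X ⟶ Over.mk f),
      InK j gp (t ≫ (Over.homMk g hg : Over.mk f ⟶ M)) ↔
        ∃ p, p ≫ K.hom = t.left ≫ g ∧ p ≫ j.left ≫ pullback.fst G.hom M.hom = gp.left := by
    intro X gp t
    constructor
    · rintro ⟨l, hl⟩
      refine ⟨l, inK_hom j hl, ?_⟩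
      rw [← Category.assoc, hl]
      exact pullback.lift_fst _ _ _
    · rintro ⟨p, hp, hpgp⟩
      refine ⟨p, pullback.hom_ext ?_ ?_⟩
      · exact (Category.assoc _ _ _).trans (hpgp.trans (pullback.lift_fst _ _ _).symm)
      · exact ((Category.assoc _ _ _).trans (congrArg (p ≫ ·) (Over.w j))).trans
          (hp.trans (pullback.lift_snd _ _ _).symm)
  constructor
  · intro h X gp t
    rw [h1, h2]
    exact h X.left t.left gp.left
  · intro h X y gp
    by_cases hgp : gp ≫ G.hom = y ≫ f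
    · have h3 := h (Over.mk (y ≫ f)) (Over.homMk gp hgp) (Over.homMk y rfl)
      rw [h1, h2] at h3
      exact h3
    · refine iff_of_false (fun ⟨p, hp, hpgp⟩ => hgp ?_) (fun ⟨p, hp, hpgp⟩ => hgp ?_)
      · rw [← hpgp, ← hp, Category.assoc, Category.assoc, Category.assoc, pullback.condition,
          show h'.left ≫ pullback.snd G.hom f ≫ f = H'.hom ≫ f by
            rw [← Category.assoc]; exact congrArg (· ≫ f) (Over.w h')]
      · rw [← hpgp, Category.assoc, Category.assoc, pullback.condition,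
          show j.left ≫ pullback.snd G.hom M.hom ≫ M.hom = K.hom ≫ M.hom by
            rw [← Category.assoc]; exact congrArg (· ≫ M.hom) (Over.w j),
          reassoc_of% hp, hg]

end Groth.Agent.GrpSubRep
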