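import Groth.Agent.GrpSubRep.Alg
import Groth.Agent.MTBridge.Charts
import Groth.Agent.MTBridge.Hom
import Groth.Agent.MTBridge.NilHom
import Groth.Agent.MTBridge.ActTrivGeo
import Groth.Agent.MTBridge.ExtCentral
import Groth.Agent.MTBridge.EtaleConj
import Groth.Prelude.Def_AutFam
import Groth.Prelude.Def_Red2

/-!
# Families of monomorphisms out of finite diagonalisable groups
-/

set_option autoImplicit false
set_option linter.style.haveILetI false
set_option backward.isDefEq.respectTransparency false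
set_option maxHeartbeats 1000000
set_option synthInstance.maxHeartbeats 400000

universe u

open CategoryTheory Limits MonoidalCategory CartesianMonoidalCategory AlgebraicGeometry TensorProduct
open scoped CategoryTheory.Obj MonObj

noncomputable section

namespace Groth.Agent.GrpSubRep

open Groth.Agent.MTBridge

variable {S : Scheme.{u}}

theorem isFinite_DS (S : Scheme.{u}) (M : Type) [AddCommGroup M] [Finite M] :
    IsFinite (Red.DS S M).hom ∧ Flat (Red.DS S M).hom ∧ LocallyOfFinitePresentation (Red.DS S M).hom := by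
  haveI : Finite (Multiplicative M) := ‹Finite M›
  let ψ := CommRingCat.ofHom (algebraMap (ULift.{u} ℤ) (MonoidAlgebra (ULift.{u} ℤ) (Multiplicative M)))
  have hfin : ψ.hom.Finite := RingHom.finite_algebraMap.2
    (Module.Finite.of_basis (MonoidAlgebra.basis (Multiplicative M) (ULift.{u} ℤ)))
  haveI h1 : IsFinite (Spec.map ψ) := (IsFinite.SpecMap_iff ψ).2 hfin
  haveI h2 : Flat (Spec.map ψ) := Flat.SpecMap_iff.2 (RingHom.flat_algebraMap_iff.2 inferInstance)
  haveI : Module.FinitePresentation (ULift.{u} ℤ) (MonoidAlgebra (ULift.{u} ℤ) (Multiplicative M)) := by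
    haveI : Module.Finite (ULift.{u} ℤ) (MonoidAlgebra (ULift.{u} ℤ) (Multiplicative M)) :=
      Module.Finite.of_basis (MonoidAlgebra.basis (Multiplicative M) (ULift.{u} ℤ))
    exact Module.finitePresentation_of_projective _ _
  haveI h3 : LocallyOfFinitePresentation (Spec.map ψ) :=
    (HasRingHomProperty.Spec_iff (P := @LocallyOfFinitePresentation)).2
      (RingHom.finitePresentation_algebraMap.2 inferInstance)
  exact ⟨MorphismProperty.pullback_snd _ _ h1, MorphismProperty.pullback_snd _ _ h2,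
    MorphismProperty.pullback_snd _ _ h3⟩

theorem isMultTypeFT_DS (S : Scheme.{u}) (M : Type) [AddCommGroup M] [AddGroup.FG M] :
    SGA3x.IsMultTypeFT (Red.DS S M) :=
  ⟨S, 𝟙 S, inferInstance, inferInstance, fun V hV => ⟨V, hV.isCompact, Set.image_id _⟩,
    fun _ => ⟨⊤, trivial, M, inferInstance, inferInstance, ⟨bcDS _ M⟩⟩⟩

section homMap

variable {H G T : Over S} {B : Scheme.{u}} (j : B ⟶ S)

/-- The tautological map to the base of a family. -/
def str (X : Over B) : (Over.map j).obj X ⟶ Over.mk j := Over.homMk X.hom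

/-- The tautological point of a base change. -/
def cou (H : Over S) : (Over.map j).obj ((Over.pullback j).obj H) ⟶ H :=
  (Over.mapPullbackAdj j).counit.app H

/-- The morphism over the parameter scheme attached to a family. -/
def homMap (φ : H ⊗ Over.mk j ⟶ G) : (Over.pullback j).obj H ⟶ (Over.pullback j).obj G :=
  toBC j (lift (cou j H) (str j _) ≫ φ)

theorem homMap_apply (φ : H ⊗ Over.mk j ⟶ G) {X : Over B} (a : (Over.map j).obj X ⟶ H) :
    toBC j a ≫ homMap j φ = toBC j (lift a (str j X) ≫ φ) := by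
  rw [homMap, ← toBC_naturality, ← Category.assoc, comp_lift]
  congr 3
  · exact ((Over.mapPullbackAdj j).homEquiv_counit ..).symm.trans
      (((Over.mapPullbackAdj j).homEquiv X H).symm_apply_apply a)
  · exact Over.OverMorphism.ext (Over.w (toBC j a))

theorem isMonHom_homMap [GrpObj H] [GrpObj G] {φ : H ⊗ Over.mk j ⟶ G} (hφ : AutFam.IsHomFamily H G φ) :
    IsMonHom (homMap j φ : Red.bc j H ⟶ Red.bc j G) := by
  refine isMonHom_of_points _ fun X x y => ?_
  obtain ⟨a, rfl⟩ := exists_toBC' j x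
  obtain ⟨b, rfl⟩ := exists_toBC' j y
  rw [← toBC_mul, homMap_apply, hφ, toBC_mul, homMap_apply, homMap_apply]

/-- A family of monomorphisms. -/
def IsMonoFam (φ : H ⊗ T ⟶ G) : Prop :=
  ∀ (X : Over S) (a b : X ⟶ H) (t : X ⟶ T), lift a t ≫ φ = lift b t ≫ φ → a = b

theorem IsMonoFam.restrict {φ : H ⊗ T ⟶ G} (h : IsMonoFam φ) {Y : Over S} (t : Y ⟶ T) :
    IsMonoFam ((H ◁ t) ≫ φ) := fun X a b s e => h X a b (s ≫ t) (by simpa [lift_whiskerLeft_assoc] using e)

theorem isMonoFam_iff (φ : H ⊗ Over.mk j ⟶ G) : IsMonoFam φ ↔ Mono (homMap j φ) := by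
  constructor
  · refine fun h => ⟨fun {X} x y e => ?_⟩
    obtain ⟨a, rfl⟩ := exists_toBC' j x
    obtain ⟨b, rfl⟩ := exists_toBC' j y
    rw [homMap_apply, homMap_apply] at e
    rw [h _ a b (str j X) (toBC_inj j e)]
  · intro h X a b t e
    let ε : (Over.map j).obj (Over.mk t.left) ≅ X := Over.isoMk (Iso.refl _) (by
      exact (Category.id_comp _).trans (Over.w t).symm)
    have hs : str j (Over.mk t.left) = ε.hom ≫ t := Over.OverMorphism.ext (Category.id_comp _).symm
    have h1 : toBC j (ε.hom ≫ a) ≫ homMap j φ = toBC j (ε.hom ≫ b) ≫ homMap j φ := by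
      rw [homMap_apply, homMap_apply, hs, ← comp_lift_assoc, ← comp_lift_assoc, e]
    exact (cancel_epi ε.hom).1 (toBC_inj j ((cancel_mono (homMap j φ)).1 h1))

end homMap

/-- The monomorphism locus over an affine base, for Hopf algebras. -/
theorem exists_idem_spec {R : Type u} [CommRing R] {A : Type u} [CommRing A] [HopfAlgebra R A] [Algebra.FiniteType R A]
    (M : Type) [CommGroup M] [Finite M] (w : (specGrp R (MonoidAlgebra R M)).X ⟶ (specGrp R A).X) [IsMonHom w] :
    ∃ e : R, IsIdempotentElem e ∧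
      (∀ (X : Over (Spec (CommRingCat.of R))) (p q : X ⟶ (specGrp R (MonoidAlgebra R M)).X),
        Set.range X.hom ⊆ (PrimeSpectrum.basicOpen e : Set (PrimeSpectrum R)) → p ≫ w = q ≫ w → p = q) ∧
      ∀ (K : Type u) [Field K] [Algebra R K], algebraMap R K e = 0 →
        ∃ (B : Type u) (_ : CommRing B) (_ : Algebra R B) (_ : Algebra K B) (_ : IsScalarTower R K B)
          (p q : Pt (specGrp R (MonoidAlgebra R M)).X B), p ≠ q ∧ p ≫ w = q ≫ w := by
  obtain ⟨f, hf⟩ := exists_bialgHom w
  obtain ⟨e, he, hsingle, hbad⟩ := exists_mono_idem f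
  refine ⟨e, he, fun X p q hX h2 => ?_, fun K _ _ heK => ?_⟩
  · have h4 : p.left ≫ w.left = q.left ≫ w.left := congrArg CommaMorphism.left h2
    rw [hf] at h4
    apply Over.OverMorphism.ext
    let ρ₁ : MonoidAlgebra R M →+* Γ(X.left, ⊤) :=
      ((Scheme.ΓSpecIso (CommRingCat.of (MonoidAlgebra R M))).inv ≫ p.left.appTop).hom
    let ρ₂ : MonoidAlgebra R M →+* Γ(X.left, ⊤) :=
      ((Scheme.ΓSpecIso (CommRingCat.of (MonoidAlgebra R M))).inv ≫ q.left.appTop).hom
    let σ : R →+* Γ(X.left, ⊤) := ((Scheme.ΓSpecIso (CommRingCat.of R)).inv ≫ X.hom.appTop).hom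
    have hσ : ∀ (x : X ⟶ (specGrp R (MonoidAlgebra R M)).X) (r : R),
        ((Scheme.ΓSpecIso (CommRingCat.of (MonoidAlgebra R M))).inv ≫ x.left.appTop).hom
          (algebraMap R (MonoidAlgebra R M) r) = σ r := by
      intro x r
      have hx : x.left ≫ Spec.map (CommRingCat.ofHom (algebraMap R (MonoidAlgebra R M))) = X.hom := Over.w x
      have h := congr(((Scheme.ΓSpecIso (CommRingCat.of R)).inv ≫ ($hx).appTop).hom r)
      rw [Scheme.Hom.comp_appTop, ← Category.assoc, ← Scheme.ΓSpecIso_inv_naturality] at h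
      exact h
    have hfx : ∀ a : A, ρ₁ (f a) = ρ₂ (f a) := by
      intro a
      have h := congr(((Scheme.ΓSpecIso (CommRingCat.of A)).inv ≫ ($h4).appTop).hom a)
      rw [Scheme.Hom.comp_appTop, Scheme.Hom.comp_appTop, ← Category.assoc, ← Category.assoc,
        ← Scheme.ΓSpecIso_inv_naturality] at h
      exact h
    have he1 : σ e = 1 := by
      refine (IsIdempotentElem.iff_eq_one_of_isUnit ?_).1 (he.map σ)
      refine X.left.toRingedSpace.isUnit_of_isUnit_germ ⊤ _ fun x _ => ?_
      have hx : x ∈ X.left.basicOpen (X.hom.appTop ((Scheme.ΓSpecIso (CommRingCat.of R)).inv e)) := by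
        rw [← Scheme.preimage_basicOpen_top]
        show X.hom x ∈ (Spec (CommRingCat.of R)).basicOpen _
        rw [basicOpen_eq_of_affine]
        exact hX ⟨x, rfl⟩
      rw [Scheme.mem_basicOpen _ _ _ (show x ∈ (⊤ : X.left.Opens) from trivial)] at hx
      exact hx
    have hρ : ρ₁ = ρ₂ := by
      refine MonoidAlgebra.ringHom_ext (fun r => ?_) fun m => ?_
      · exact (hσ p r).trans (hσ q r).symm
      · obtain ⟨x, hx⟩ := hsingle m
        have h := hfx x
        rw [hx, show (MonoidAlgebra.single m e : MonoidAlgebra R M) =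
          algebraMap R _ e * MonoidAlgebra.single m 1 by simp [MonoidAlgebra.single_mul_single], map_mul, map_mul,
          hσ p, hσ q, he1, one_mul, one_mul] at h
        exact h
    refine ext_to_Spec ?_
    exact CommRingCat.hom_ext hρ
  · obtain ⟨B, _, _, _, _, χ, hχ, hχe⟩ := hbad K heK
    let x₁ : MonoidAlgebra R M →ₐ[R] B := MonoidAlgebra.lift R B _ χ
    let x₂ : MonoidAlgebra R M →ₐ[R] B := MonoidAlgebra.lift R B _ 1
    have hw : ∀ x : MonoidAlgebra R M →ₐ[R] B,
        spMap x ≫ w = spMap (x.comp (f : A →ₐ[R] MonoidAlgebra R M)) := fun x => by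
      rw [← spMap_comp]
      exact congrArg (fun z => spMap x ≫ z) (Over.OverMorphism.ext hf)
    refine ⟨B, inferInstance, inferInstance, inferInstance, inferInstance, spMap x₁, spMap x₂, fun h => hχ ?_, ?_⟩
    · exact (MonoidAlgebra.lift R B M).injective (AlgHom.ext fun z => DFunLike.congr_fun
        (congrArg CommRingCat.Hom.hom (Spec.map_injective (congrArg CommaMorphism.left h))) z)
    · rw [hw, hw]
      exact congrArg spMap (AlgHom.ext hχe)

/-- The monomorphism locus over an affine base. -/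
theorem exists_idem_hom {G : Over S} [GrpObj G] [IsAffineHom G.hom] [LocallyOfFiniteType G.hom]
    (N : Type) [AddCommGroup N] [Finite N] {R : Type u} [CommRing R] (j : Spec (CommRingCat.of R) ⟶ S)
    (w : Red.bc j (Red.DS S N) ⟶ Red.bc j G) [IsMonHom w] :
    ∃ e : R, IsIdempotentElem e ∧
      (∀ (X : Over (Spec (CommRingCat.of R))) (p q : X ⟶ Red.bc j (Red.DS S N)),
        Set.range X.hom ⊆ (PrimeSpectrum.basicOpen e : Set (PrimeSpectrum R)) → p ≫ w = q ≫ w → p = q) ∧
      ∀ (K : Type u) [Field K] [Algebra R K], algebraMap R K e = 0 →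
        ∃ (B : Type u) (_ : CommRing B) (_ : Algebra R B) (_ : Algebra K B) (_ : IsScalarTower R K B)
          (p q : Pt (Red.bc j (Red.DS S N)) B), p ≠ q ∧ p ≫ w = q ≫ w := by
  haveI : IsAffineHom (Red.bc j G).hom := inferInstanceAs (IsAffineHom (pullback.snd G.hom j))
  haveI : LocallyOfFiniteType (Red.bc j G).hom := inferInstanceAs (LocallyOfFiniteType (pullback.snd G.hom j))
  haveI : IsAffine (Red.bc j G).left := isAffine_of_isAffineHom (Red.bc j G).hom
  obtain ⟨A, _, eG, heG⟩ := Groth.Agent.FinHopf.exists_hopf (R := CommRingCat.of R) (Red.bc j G)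
  haveI := heG
  haveI : IsIso eG.hom.left := ((Over.forget _).mapIso eG).isIso_hom
  haveI : Algebra.FiniteType R A := by
    have h0 : LocallyOfFiniteType (eG.hom.left ≫ (Red.bc j G).hom) := inferInstance
    rw [Over.w eG.hom] at h0
    exact RingHom.finiteType_algebraMap.1 ((HasRingHomProperty.Spec_iff (P := @LocallyOfFiniteType)).1 h0)
  haveI : Finite (Multiplicative N) := ‹Finite N›
  obtain ⟨eD⟩ := nonempty_DS_iso R N
  let i : Grp.mk (Red.bc j (Red.DS S N)) ≅ specGrp R (MonoidAlgebra R (Multiplicative N)) := bcDS j N ≪≫ eD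
  haveI : IsIso i.inv.hom.hom := inferInstanceAs (IsIso ((Grp.forget _).map i.inv))
  haveI : IsMonHom i.inv.hom.hom := i.inv.hom.isMonHom_hom
  haveI : IsMonHom eG.inv := inferInstance
  let w' : (specGrp R (MonoidAlgebra R (Multiplicative N))).X ⟶ (specGrp R A).X := i.inv.hom.hom ≫ w ≫ eG.inv
  haveI : IsMonHom w' := inferInstanceAs (IsMonHom (i.inv.hom.hom ≫ w ≫ eG.inv))
  obtain ⟨e, he, h1, h2⟩ := exists_idem_spec (Multiplicative N) w'
  let ι₀ : (specGrp R (MonoidAlgebra R (Multiplicative N))).X ⟶ Red.bc j (Red.DS S N) := i.inv.hom.hom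
  let π₀ : Red.bc j (Red.DS S N) ⟶ (specGrp R (MonoidAlgebra R (Multiplicative N))).X := i.hom.hom.hom
  have hπι : π₀ ≫ ι₀ = 𝟙 _ := ((Grp.forget _).mapIso i).hom_inv_id
  have hιπ : ι₀ ≫ π₀ = 𝟙 _ := ((Grp.forget _).mapIso i).inv_hom_id
  have hw' : w' = ι₀ ≫ w ≫ eG.inv := rfl
  refine ⟨e, he, fun X p q hX hpq => ?_, fun K _ _ heK => ?_⟩
  · have h3 := h1 X (p ≫ π₀) (q ≫ π₀) hX (by
      simp only [hw', Category.assoc, reassoc_of% hπι, reassoc_of% hpq])
    calc p = (p ≫ π₀) ≫ ι₀ := by rw [Category.assoc, hπι, Category.comp_id]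
      _ = (q ≫ π₀) ≫ ι₀ := by rw [h3]
      _ = q := by rw [Category.assoc, hπι, Category.comp_id]
  · obtain ⟨B, _, _, _, _, p, q, hne, hpq⟩ := h2 K heK
    refine ⟨B, inferInstance, inferInstance, inferInstance, inferInstance, p ≫ ι₀, q ≫ ι₀, fun h => hne ?_, ?_⟩
    · calc p = (p ≫ ι₀) ≫ π₀ := by rw [Category.assoc, hιπ, Category.comp_id]
        _ = (q ≫ ι₀) ≫ π₀ := by rw [h]
        _ = q := by rw [Category.assoc, hιπ, Category.comp_id]
    · have h := congrArg (fun z => z ≫ eG.hom) hpq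
      simp only [hw', Category.assoc, Iso.inv_hom_id, Category.comp_id] at h
      simpa only [Category.assoc] using h

/-- **The monomorphism locus of a family.** -/
theorem exists_mono_locus {G : Over S} [GrpObj G] [IsAffineHom G.hom] [LocallyOfFiniteType G.hom]
    (N : Type) [AddCommGroup N] [Finite N] {T : Over S} (φ : Red.DS S N ⊗ T ⟶ G)
    (hφ : AutFam.IsHomFamily (Red.DS S N) G φ) :
    ∃ U : T.left.Opens, IsClosed (U : Set T.left) ∧ ∀ (Y : Over S) (t : Y ⟶ T),
      IsMonoFam ((Red.DS S N ◁ t) ≫ φ) ↔ Set.range t.left ⊆ U := by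
  classical
  haveI : Finite (Multiplicative N) := ‹Finite N›
  -- the statement over an affine chart
  have chart : ∀ (V : T.left.Opens) (hV : IsAffineOpen V), ∃ e : Γ(T.left, V), IsIdempotentElem e ∧
      (∀ (Y : Over S) (t : Y ⟶ T), Set.range t.left ⊆ (T.left.basicOpen e : Set T.left) →
        IsMonoFam ((Red.DS S N ◁ t) ≫ φ)) ∧
      (∀ (Y : Over S) (t : Y ⟶ T), IsMonoFam ((Red.DS S N ◁ t) ≫ φ) → ∀ y : Y.left, t.left y ∈ V →
        t.left y ∈ T.left.basicOpen e) := by
    intro V hV
    let R : Type u := Γ(T.left, V)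
    let j : Spec (CommRingCat.of R) ⟶ S := hV.fromSpec ≫ T.hom
    let T₀ : Over S := Over.mk j
    let c : T₀ ⟶ T := Over.homMk hV.fromSpec
    let φ₀ := (Red.DS S N ◁ c) ≫ φ
    have hφ₀ : AutFam.IsHomFamily (Red.DS S N) G φ₀ := fun X a b s => by
      simp only [φ₀, lift_whiskerLeft_assoc]
      exact hφ X a b (s ≫ c)
    let w : Red.bc j (Red.DS S N) ⟶ Red.bc j G := homMap j φ₀
    have hw₀ := isMonHom_homMap j hφ₀
    haveI : IsMonHom w := hw₀
    obtain ⟨e, he, hgood, hbad⟩ := exists_idem_hom N j w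
    have hbasic : ∀ z : Spec (CommRingCat.of R), z ∈ PrimeSpectrum.basicOpen e ↔
        hV.fromSpec z ∈ T.left.basicOpen e := by
      intro z
      show z ∈ (PrimeSpectrum.basicOpen e : Set (PrimeSpectrum R)) ↔ z ∈ hV.fromSpec ⁻¹ᵁ T.left.basicOpen e
      rw [hV.fromSpec_preimage_basicOpen]
      rfl
    refine ⟨e, he, fun Y t ht => ?_, fun Y t hmono y hy => ?_⟩
    · intro X a b s heq
      have hu : Set.range (s ≫ t).left ⊆ T.left.basicOpen e := by
        rintro _ ⟨x, rfl⟩
        exact ht ⟨s.left x, rfl⟩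
      let l : X.left ⟶ Spec (CommRingCat.of R) := IsOpenImmersion.lift hV.fromSpec (s ≫ t).left (by
        erw [hV.range_fromSpec]
        exact hu.trans (T.left.basicOpen_le e))
      have hl : l ≫ hV.fromSpec = (s ≫ t).left := IsOpenImmersion.lift_fac _ _ _
      let X₀ : Over (Spec (CommRingCat.of R)) := Over.mk l
      let ε : (Over.map j).obj X₀ ≅ X := Over.isoMk (Iso.refl _) (by
        simp only [Iso.refl_hom, Over.map_obj_hom, X₀, j, Over.mk_hom, reassoc_of% hl, Category.id_comp]
        exact (Over.w (s ≫ t)).symm)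
      have hstr : str j X₀ ≫ c = ε.hom ≫ s ≫ t := Over.OverMorphism.ext (hl.trans (Category.id_comp _).symm)
      have h3 : ∀ z : X ⟶ Red.DS S N, toBC j (ε.hom ≫ z) ≫ w =
          toBC j (ε.hom ≫ lift z s ≫ (Red.DS S N ◁ t) ≫ φ) := fun z => by
        refine (homMap_apply j φ₀ _).trans ?_
        simp only [φ₀, lift_whiskerLeft_assoc, hstr, comp_lift_assoc]
      have h4 := hgood X₀ (toBC j (ε.hom ≫ a)) (toBC j (ε.hom ≫ b)) (by
        rintro _ ⟨x, rfl⟩
        refine (hbasic _).2 ?_
        show (l ≫ hV.fromSpec) x ∈ T.left.basicOpen e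
        rw [hl]
        exact hu ⟨x, rfl⟩) (by rw [h3, h3, heq])
      exact (cancel_epi ε.hom).1 (toBC_inj j h4)
    · by_contra hne
      let K : Type u := Y.left.residueField y
      let ty : Spec (CommRingCat.of K) ⟶ T.left := Y.left.fromSpecResidueField y ≫ t.left
      have hty : Set.range ty ⊆ Set.range hV.fromSpec := by
        rw [hV.range_fromSpec]
        rintro _ ⟨z, rfl⟩
        show t.left (Y.left.fromSpecResidueField y z) ∈ V
        rw [Scheme.fromSpecResidueField_apply]
        exact hy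
      let l : Spec (CommRingCat.of K) ⟶ Spec (CommRingCat.of R) := IsOpenImmersion.lift hV.fromSpec ty hty
      have hl : l ≫ hV.fromSpec = ty := IsOpenImmersion.lift_fac _ _ _
      letI : Algebra R K := (Spec.preimage l).hom.toAlgebra
      have hlK : Spec.map (CommRingCat.ofHom (algebraMap R K)) = l := Spec.map_preimage l
      have heK : algebraMap R K e = 0 := by
        by_contra hne'
        apply hne
        have h1 : l (IsLocalRing.closedPoint K) ∈ PrimeSpectrum.basicOpen e := by
          rw [← hlK]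
          show e ∉ Ideal.comap (algebraMap R K) (IsLocalRing.maximalIdeal K)
          rw [Ideal.mem_comap, IsLocalRing.maximalIdeal_eq_bot (R := K), Ideal.mem_bot]
          exact hne'
        have h2 : (l ≫ hV.fromSpec) (IsLocalRing.closedPoint K) ∈ T.left.basicOpen e := (hbasic _).1 h1
        rw [hl] at h2
        rw [show ty (IsLocalRing.closedPoint K) = t.left y from congrArg t.left.base (Scheme.fromSpecResidueField_apply y _)] at h2
        exact h2
      obtain ⟨B, _, _, _, _, p, q, hpne, hpq⟩ := hbad K heK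
      let P : Over (Spec (CommRingCat.of R)) := (Spec (CommRingCat.of B)).asOver (Spec (CommRingCat.of R))
      obtain ⟨a, rfl⟩ := exists_toBC' j p
      obtain ⟨b, rfl⟩ := exists_toBC' j q
      have hB : Spec.map (CommRingCat.ofHom (algebraMap R B)) = Spec.map (CommRingCat.ofHom (algebraMap K B)) ≫ l := by
        rw [IsScalarTower.algebraMap_eq R K B, CommRingCat.ofHom_comp, Spec.map_comp, hlK]
      let s : (Over.map j).obj P ⟶ Y := Over.homMk (Spec.map (CommRingCat.ofHom (algebraMap K B)) ≫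
        Y.left.fromSpecResidueField y) (by
          show (_ ≫ Y.left.fromSpecResidueField y) ≫ Y.hom = Spec.map (CommRingCat.ofHom (algebraMap R B)) ≫ j
          simp only [hB, Category.assoc, j, reassoc_of% hl, ty, Over.w t])
      have hstr : str j P ≫ c = s ≫ t := Over.OverMorphism.ext (by
        show Spec.map (CommRingCat.ofHom (algebraMap R B)) ≫ hV.fromSpec = (_ ≫ _) ≫ t.left
        simp only [hB, Category.assoc, hl, ty])
      have h3 : ∀ z : (Over.map j).obj P ⟶ Red.DS S N, toBC j z ≫ w =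
          toBC j (lift z s ≫ (Red.DS S N ◁ t) ≫ φ) := fun z => by
        refine (homMap_apply j φ₀ z).trans ?_
        simp only [φ₀, lift_whiskerLeft_assoc, hstr]
      rw [h3, h3] at hpq
      exact hpne (congrArg (toBC j) (hmono _ a b s (toBC_inj j hpq)))
  choose e he hmono hbad using fun V : T.left.affineOpens => chart V.1 V.2
  let U : T.left.Opens := ⨆ V : T.left.affineOpens, T.left.basicOpen (e V)
  -- being in the locus does not depend on the chart
  have hmem : ∀ (V : T.left.affineOpens) (x : T.left), x ∈ V.1 → x ∈ U → x ∈ T.left.basicOpen (e V) := by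
    intro V x hxV hxU
    obtain ⟨W, hW⟩ := TopologicalSpace.Opens.mem_iSup.1 hxU
    let Y : Over S := Over.mk ((T.left.basicOpen (e W)).ι ≫ T.hom)
    let t : Y ⟶ T := Over.homMk (T.left.basicOpen (e W)).ι
    exact hbad V Y t (hmono W Y t (by show Set.range (T.left.basicOpen (e W)).ι ⊆ _; rw [Scheme.Opens.range_ι]))
      ⟨x, hW⟩ hxV
  refine ⟨U, ?_, fun Y t => ⟨fun h => ?_, fun h => ?_⟩⟩
  · rw [← isOpen_compl_iff, isOpen_iff_forall_mem_open]
    intro x hx
    obtain ⟨_, ⟨V, hV, rfl⟩, hxV, -⟩ :=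
      T.left.isBasis_affineOpens.exists_subset_of_mem_open (Set.mem_univ x) isOpen_univ
    refine ⟨T.left.basicOpen (1 - e ⟨V, hV⟩), fun z hz hzU => ?_, (T.left.basicOpen _).2, ?_⟩
    · have h1 := hmem ⟨V, hV⟩ z (T.left.basicOpen_le _ hz) hzU
      have h2 : z ∈ T.left.basicOpen (e ⟨V, hV⟩ * (1 - e ⟨V, hV⟩)) := by
        rw [Scheme.basicOpen_mul]
        exact ⟨h1, hz⟩
      rw [(he ⟨V, hV⟩).mul_one_sub_self, Scheme.basicOpen_zero] at h2
      exact h2.elim
    · have h1 : x ∉ T.left.basicOpen (e ⟨V, hV⟩) := fun h =>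
        hx (TopologicalSpace.Opens.mem_iSup.2 ⟨⟨V, hV⟩, h⟩)
      simp only [SetLike.mem_coe] at h1 ⊢
      rw [Scheme.mem_basicOpen _ _ _ hxV] at h1 ⊢
      rw [map_sub, map_one]
      exact IsLocalRing.isUnit_one_sub_self_of_mem_nonunits _ h1
  · rintro _ ⟨y, rfl⟩
    obtain ⟨_, ⟨V, hV, rfl⟩, hyV, -⟩ :=
      T.left.isBasis_affineOpens.exists_subset_of_mem_open (Set.mem_univ (t.left y)) isOpen_univ
    exact TopologicalSpace.Opens.mem_iSup.2 ⟨⟨V, hV⟩, hbad ⟨V, hV⟩ Y t h y hyV⟩
  · intro X a b s heq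
    apply Over.OverMorphism.ext
    let 𝒰 : X.left.OpenCover := X.left.openCoverOfIsOpenCover
      (fun V : T.left.affineOpens => (s ≫ t).left ⁻¹ᵁ T.left.basicOpen (e V)) (top_le_iff.1 fun x _ => by
        obtain ⟨V, hV⟩ := TopologicalSpace.Opens.mem_iSup.1 (h ⟨s.left x, rfl⟩)
        exact TopologicalSpace.Opens.mem_iSup.2 ⟨V, hV⟩)
    refine 𝒰.hom_ext _ _ fun V => ?_
    let X' : Over S := Over.mk (𝒰.f V ≫ X.hom)
    let m : X' ⟶ X := Over.homMk (𝒰.f V)
    have hm : Set.range (m ≫ s ≫ t).left ⊆ T.left.basicOpen (e V) := by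
      rintro _ ⟨x, rfl⟩
      exact x.2
    have h1 : m ≫ a = m ≫ b := hmono V X' (m ≫ s ≫ t) hm X' (m ≫ a) (m ≫ b) (𝟙 _) (by
      simp only [lift_whiskerLeft_assoc, Category.id_comp, ← Category.assoc m s t]
      have h2 := congrArg (m ≫ ·) heq
      simp only [lift_whiskerLeft_assoc, comp_lift_assoc, Category.assoc] at h2
      simpa only [Category.assoc] using h2)
    exact congrArg CommaMorphism.left h1

end Groth.Agent.GrpSubRep
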