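import Mathlib

/-!
# Where a homomorphism out of a finite diagonalisable group is a monomorphism
-/

set_option autoImplicit false
set_option linter.style.haveILetI false
set_option linter.unusedSectionVars false
set_option maxHeartbeats 1000000

universe u

open TensorProduct MonoidAlgebra

noncomputable section

namespace Groth.Agent.GrpSubRep

variable {C : Type u} [CommRing C] {A : Type u} [CommRing A] [HopfAlgebra C A] {N : Type} [CommGroup N]
  (v : A →ₐc[C] MonoidAlgebra C N)

/-- The degree `n` part of the image. -/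
def deg (n : N) : Ideal C where
  carrier := {c | ∃ x, v x = single n c}
  add_mem' := by
    rintro c d ⟨x, hx⟩ ⟨y, hy⟩
    exact ⟨x + y, by rw [map_add, hx, hy, single_add]⟩
  zero_mem' := ⟨0, by rw [map_zero, single_zero]⟩
  smul_mem' := by
    rintro r c ⟨x, hx⟩
    exact ⟨r • x, by rw [map_smul, hx, smul_single, smul_eq_mul]⟩

theorem coeff_mem_deg (n : N) (x : A) : (v x).coeff n ∈ deg v n := by
  classical
  let L : MonoidAlgebra C N ⊗[C] MonoidAlgebra C N →ₗ[C] MonoidAlgebra C N :=
    (TensorProduct.rid C (MonoidAlgebra C N)).toLinearMap ∘ₗ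
      ((Finsupp.lapply n).comp (coeffLinearEquiv C).toLinearMap).lTensor (MonoidAlgebra C N)
  have h1 : ∀ z : MonoidAlgebra C N, L (Coalgebra.comul (R := C) z) = single n (z.coeff n) := by
    intro z
    induction z using MonoidAlgebra.induction_linear with
    | zero => simp
    | add p q hp hq => rw [map_add, map_add, hp, hq, coeff_add, Finsupp.add_apply, single_add]
    | single m c =>
      rw [comul_single]
      by_cases h : m = n
      · subst h
        simp [L, CommSemiring.comul_apply]
      · simp [L, CommSemiring.comul_apply, Finsupp.single_eq_of_ne (Ne.symm h)]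
  have h2 : ∀ z : A ⊗[C] A, L (TensorProduct.map (v : A →ₗ[C] MonoidAlgebra C N) (v : A →ₗ[C] MonoidAlgebra C N) z) ∈
      LinearMap.range (v : A →ₗ[C] MonoidAlgebra C N) := by
    intro z
    induction z using TensorProduct.induction_on with
    | zero => simp
    | add p q hp hq => rw [map_add, map_add]; exact add_mem hp hq
    | tmul a b => exact ⟨(v b).coeff n • a, by simp [L]⟩
  obtain ⟨y, hy⟩ := h2 (Coalgebra.comul (R := C) x)
  have h3 := h1 (v x)
  rw [← CoalgHomClass.map_comp_comul_apply v] at h3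
  exact ⟨y, hy.trans h3⟩

theorem coeff_mem_sq (n : N) (x : A) : (v x).coeff n ∈ deg v n * deg v n := by
  classical
  let c : MonoidAlgebra C N →ₗ[C] C := (Finsupp.lapply n).comp (coeffLinearEquiv C).toLinearMap
  have h1 : ∀ z : MonoidAlgebra C N, TensorProduct.lid C C (TensorProduct.map c c (Coalgebra.comul (R := C) z)) =
      z.coeff n := by
    intro z
    induction z using MonoidAlgebra.induction_linear with
    | zero => simp
    | add p q hp hq => rw [map_add, map_add, map_add, hp, hq, coeff_add, Finsupp.add_apply]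
    | single m r =>
      rw [comul_single]
      by_cases h : m = n
      · subst h
        simp [c, CommSemiring.comul_apply]
      · simp [c, CommSemiring.comul_apply, Finsupp.single_eq_of_ne (Ne.symm h)]
  rw [← h1 (v x), ← CoalgHomClass.map_comp_comul_apply v]
  generalize Coalgebra.comul (R := C) x = z
  induction z using TensorProduct.induction_on with
  | zero => simp
  | add p q hp hq => simp only [map_add]; exact add_mem hp hq
  | tmul a b =>
    simpa [c] using Ideal.mul_mem_mul (coeff_mem_deg v n a) (coeff_mem_deg v n b)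

theorem one_mem_deg : (1 : C) ∈ deg v 1 := ⟨1, by rw [map_one, MonoidAlgebra.one_def]⟩

theorem mul_mem_deg {m n : N} {c d : C} (hc : c ∈ deg v m) (hd : d ∈ deg v n) : c * d ∈ deg v (m * n) := by
  obtain ⟨x, hx⟩ := hc
  obtain ⟨y, hy⟩ := hd
  exact ⟨x * y, by rw [map_mul, hx, hy, single_mul_single]⟩

theorem exists_idem [Algebra.FiniteType C A] [Finite N] (Λ : Subgroup N) :
    ∃ e : C, IsIdempotentElem e ∧ ∀ c : C, c ∈ Ideal.span {e} ↔
      c ∈ ⨆ n ∈ (Λ : Set N)ᶜ, deg v n := by
  classical
  obtain ⟨s, hs⟩ := Algebra.FiniteType.out (R := C) (A := A)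
  let J : Ideal C := ⨆ n ∈ (Λ : Set N)ᶜ, deg v n
  let K : Ideal C := Ideal.span ((fun p : A × N => (v p.1).coeff p.2) '' ((s : Set A) ×ˢ (Λ : Set N)ᶜ))
  have hall : ∀ x : A, ∀ n, n ∉ Λ → (v x).coeff n ∈ K := by
    intro x
    induction (show x ∈ Algebra.adjoin C (s : Set A) from hs ▸ trivial) using Algebra.adjoin_induction with
    | mem x hx => exact fun n hn => Ideal.subset_span ⟨(x, n), ⟨hx, hn⟩, rfl⟩
    | algebraMap r =>
      intro n hn
      rw [AlgHomClass.commutes, MonoidAlgebra.coe_algebraMap]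
      simp [Finsupp.single_eq_of_ne (show n ≠ 1 from fun h => hn (h ▸ Λ.one_mem))]
    | add x y _ _ hx hy =>
      intro n hn
      rw [map_add, coeff_add, Finsupp.add_apply]
      exact add_mem (hx n hn) (hy n hn)
    | mul x y _ _ hx hy =>
      intro n hn
      have hsum : v (x * y) = (v x).coeff.sum fun a c => (v y).coeff.sum fun b d => single (a * b) (c * d) := by
        rw [map_mul, MonoidAlgebra.mul_def]
      rw [hsum, Finsupp.sum, coeff_sum, Finsupp.finsetSum_apply]
      refine Ideal.sum_mem _ fun a _ => ?_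
      rw [Finsupp.sum, coeff_sum, Finsupp.finsetSum_apply]
      refine Ideal.sum_mem _ fun b _ => ?_
      by_cases hab : a * b = n
      · rw [coeff_single, hab, Finsupp.single_eq_same]
        by_cases ha : a ∈ Λ
        · exact Ideal.mul_mem_left _ _ (hy b fun hb => hn (hab ▸ Λ.mul_mem ha hb))
        · exact Ideal.mul_mem_right _ _ (hx a ha)
      · simp [Finsupp.single_eq_of_ne (Ne.symm hab)]
  have hJK : J = K := by
    refine le_antisymm (iSup₂_le fun n hn => ?_) (Ideal.span_le.2 ?_)
    · rintro c ⟨x, hx⟩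
      have := hall x n hn
      rwa [hx, coeff_single, Finsupp.single_eq_same] at this
    · rintro _ ⟨⟨x, n⟩, ⟨-, hn⟩, rfl⟩
      exact (le_iSup₂ (f := fun n (_ : n ∈ (Λ : Set N)ᶜ) => deg v n) n hn) (coeff_mem_deg v n x)
  have hfg : J.FG := hJK ▸ Submodule.fg_span ((s.finite_toSet.prod (Set.toFinite _)).image _)
  have hid : IsIdempotentElem J := by
    refine le_antisymm Ideal.mul_le_right ?_
    rw [hJK, Ideal.span_le]
    rintro _ ⟨⟨x, n⟩, ⟨-, hn⟩, rfl⟩
    rw [← hJK]
    exact Ideal.mul_mono (le_iSup₂ (f := fun n (_ : n ∈ (Λ : Set N)ᶜ) => deg v n) n hn)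
      (le_iSup₂ (f := fun n (_ : n ∈ (Λ : Set N)ᶜ) => deg v n) n hn) (coeff_mem_sq v n x)
  obtain ⟨e, he, heJ⟩ := (Ideal.isIdempotentElem_iff_of_fg J hfg).1 hid
  exact ⟨e, he, fun c => by rw [show Ideal.span {e} = J from heJ.symm]⟩

/-- **The monomorphism locus.** -/
theorem exists_mono_idem [Algebra.FiniteType C A] [Finite N] :
    ∃ e : C, IsIdempotentElem e ∧ (∀ n : N, ∃ x, v x = single n e) ∧
      ∀ (K : Type u) [Field K] [Algebra C K], algebraMap C K e = 0 →
        ∃ (B : Type u) (_ : CommRing B) (_ : Algebra K B) (_ : Algebra C B) (_ : IsScalarTower C K B) (χ : N →* B),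
          χ ≠ 1 ∧ ∀ x, MonoidAlgebra.lift C B N χ (v x) = MonoidAlgebra.lift C B N 1 (v x) := by
  classical
  choose e he hJ using fun Λ : {Λ : Subgroup N // Λ ≠ ⊤} => exists_idem v Λ.1
  haveI : Fintype {Λ : Subgroup N // Λ ≠ ⊤} := Fintype.ofFinite _
  let E : C := ∏ Λ, e Λ
  have hE : IsIdempotentElem E := by
    show _ * _ = _
    rw [← Finset.prod_mul_distrib]
    exact Finset.prod_congr rfl fun Λ _ => he Λ
  refine ⟨E, hE, fun n => ?_, fun K _ _ hK => ?_⟩
  · suffices h : E ∈ (deg v n).radical by
      obtain ⟨j, hj⟩ := h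
      have : E ∈ deg v n := by
        rcases Nat.eq_zero_or_pos j with rfl | hj0
        · simpa using Ideal.mul_mem_left _ E hj
        · have h' : E ^ j = E := by
            conv_lhs => rw [← Nat.succ_pred_eq_of_pos hj0]
            exact hE.pow_succ_eq _
          rwa [h'] at hj
      exact this
    rw [Ideal.radical_eq_sInf, Submodule.mem_sInf]
    rintro p ⟨hp, hpp⟩
    by_contra hEp
    let Λ : Subgroup N := Subgroup.closure {m | ¬ deg v m ≤ p}
    have hΛ : Λ = ⊤ := by
      by_contra hne
      have hle : (⨆ m ∈ (Λ : Set N)ᶜ, deg v m) ≤ p := iSup₂_le fun m hm => by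
        by_contra hmp
        exact hm (Subgroup.subset_closure hmp)
      have he' : e ⟨Λ, hne⟩ ∈ p := hle ((hJ ⟨Λ, hne⟩ _).1 (Ideal.subset_span rfl))
      exact hEp (Ideal.mem_of_dvd p (Finset.dvd_prod_of_mem e (Finset.mem_univ _)) he')
    have hclosed : ∀ m ∈ Λ, ¬ deg v m ≤ p := by
      intro m hm
      rw [← Subgroup.mem_toSubmonoid] at hm
      simp only [Λ, Subgroup.closure_toSubmonoid_of_finite] at hm
      induction hm using Submonoid.closure_induction with
      | mem x hx => exact hx
      | one => exact fun h => hpp.ne_top ((Ideal.eq_top_iff_one _).2 (h (one_mem_deg v)))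
      | mul x y _ _ hx hy =>
        obtain ⟨c, hc, hcp⟩ := SetLike.not_le_iff_exists.1 hx
        obtain ⟨d, hd, hdp⟩ := SetLike.not_le_iff_exists.1 hy
        exact fun h => (hpp.mem_or_mem (h (mul_mem_deg v hc hd))).elim hcp hdp
    exact hclosed n (hΛ ▸ Subgroup.mem_top n) hp
  · obtain ⟨Λ, -, hΛ⟩ := Finset.prod_eq_zero_iff.1 (show ∏ Λ, algebraMap C K (e Λ) = 0 by rw [← map_prod]; exact hK)
    let B := MonoidAlgebra K (N ⧸ Λ.1)
    refine ⟨B, inferInstance, inferInstance, inferInstance, inferInstance,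
      (MonoidAlgebra.of K (N ⧸ Λ.1)).comp (QuotientGroup.mk' Λ.1), fun h => ?_, fun x => ?_⟩
    · refine Λ.2 (eq_top_iff.2 fun n _ => (QuotientGroup.eq_one_iff n).1 ?_)
      exact MonoidAlgebra.of_injective (R := K) ((DFunLike.congr_fun h n).trans (map_one _).symm)
    · rw [MonoidAlgebra.lift_apply, MonoidAlgebra.lift_apply]
      refine Finsupp.sum_congr fun m _ => ?_
      by_cases hm : m ∈ Λ.1
      · rw [MonoidHom.comp_apply, QuotientGroup.mk'_apply, (QuotientGroup.eq_one_iff m).2 hm, map_one,
          MonoidHom.one_apply]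
      · have h0 : algebraMap C K ((v x).coeff m) = 0 := by
          have h := (hJ Λ _).2 ((le_iSup₂ (f := fun n (_ : n ∈ (Λ.1 : Set N)ᶜ) => deg v n) m hm) (coeff_mem_deg v m x))
          obtain ⟨r, hr⟩ := Ideal.mem_span_singleton'.1 h
          rw [← hr, map_mul, hΛ, mul_zero]
        rw [Algebra.smul_def, Algebra.smul_def, IsScalarTower.algebraMap_apply C K B, h0, map_zero, zero_mul, zero_mul]

end Groth.Agent.GrpSubRep
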