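import Groth.Agent.GrpSubRep.Uniq
import Groth.Agent.MTDescent.Epi

/-!
# The classifying morphism of a finite subgroup of multiplicative type
-/

set_option autoImplicit false
set_option linter.style.haveILetI false
set_option linter.unusedSectionVars false
set_option backward.isDefEq.respectTransparency false
set_option maxHeartbeats 1000000
set_option synthInstance.maxHeartbeats 400000

universe u

open CategoryTheory Limits MonoidalCategory CartesianMonoidalCategory AlgebraicGeometry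
open scoped CategoryTheory.Obj MonObj

noncomputable section

namespace Groth.Agent.GrpSubRep

open Groth.Agent.MTBridge

/-- A diagonalisable group which is finite over a non-empty base has finite character group. -/
theorem finite_of_isFinite_DS {U : Scheme.{u}} [Nonempty U] {M : Type} [AddCommGroup M]
    (h : IsFinite (Red.DS U M).hom) : Finite M := by
  obtain ⟨x⟩ := ‹Nonempty U›
  obtain ⟨W, hW, hxW, -⟩ := exists_isAffineOpen_mem_and_subset (U := (⊤ : U.Opens)) (x := x) trivial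
  haveI : Nonempty W := ⟨⟨x, hxW⟩⟩
  let R : Type u := Γ(U, W)
  haveI : Nontrivial R := U.component_nontrivial W
  let j : Spec (CommRingCat.of R) ⟶ U := hW.fromSpec
  obtain ⟨eD⟩ := nonempty_DS_iso R M
  let e := bcDS j M ≪≫ eD
  haveI : IsIso e.inv.hom.hom.left :=
    inferInstanceAs (IsIso ((Over.forget _).map ((Grp.forget _).map e.inv)))
  haveI hbc : IsFinite (Red.bc j (Red.DS U M)).hom := MorphismProperty.pullback_snd _ _ h
  have hS : IsFinite (Spec.map (CommRingCat.ofHom (algebraMap R (MonoidAlgebra R (Multiplicative M))))) := by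
    rw [show Spec.map (CommRingCat.ofHom (algebraMap R (MonoidAlgebra R (Multiplicative M)))) =
      e.inv.hom.hom.left ≫ (Red.bc j (Red.DS U M)).hom from (Over.w e.inv.hom.hom).symm]
    infer_instance
  haveI : Module.Finite R (MonoidAlgebra R (Multiplicative M)) :=
    RingHom.finite_algebraMap.1 ((IsFinite.SpecMap_iff _).1 hS)
  exact Module.Finite.finite_basis (MonoidAlgebra.basis (Multiplicative M) R)

variable {S : Scheme.{u}} (G : Over S) [GrpObj G]

/-- Membership in a subgroup descends along an effective epimorphism. -/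
theorem inK_of_epi {M : Over S} {K : Over M.left} (j : K ⟶ Red.bc M.hom G) [Mono j.left] {X X' : Over S}
    (c : X' ⟶ X) [EffectiveEpi c.left] (g : X ⟶ G) (m : X ⟶ M) (h : InK j (c ≫ g) (c ≫ m)) : InK j g m := by
  obtain ⟨l', hl'⟩ := h
  rw [pt₂_comp] at hl'
  refine ⟨EffectiveEpi.desc c.left l' fun g₁ g₂ e => ?_, ?_⟩
  · rw [← cancel_mono j.left, Category.assoc, Category.assoc, hl', reassoc_of% e]
  · rw [← cancel_epi c.left, EffectiveEpi.fac_assoc, hl']

variable [IsAffineHom G.hom] [LocallyOfFinitePresentation G.hom]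

/-- The classifying point of a split subgroup. -/
theorem exists_point_split {T P : Over S} {K' : Over T.left} [GrpObj K'] (j' : K' ⟶ Red.bc T.hom G) [IsMonHom j']
    [IsImmersion j'.left] (x : P ⟶ T) (M : Type) [AddCommGroup M] [Finite M]
    (d : Grp.mk (Red.bc x.left K') ≅ Grp.mk (Red.DS P.left M)) :
    ∃ v : P ⟶ Par G, ∀ (X : Over S) (g : X ⟶ G) (t : X ⟶ P),
      InK j' g (t ≫ x) ↔ InK (uj G) g (t ≫ v) := by
  let e : Grp.mk (Red.bc P.hom (Red.DS S M)) ≅ Grp.mk (Red.bc x.left K') := bcDS P.hom M ≪≫ d.symm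
  let e' : Red.bc P.hom (Red.DS S M) ≅ Red.bc x.left K' := (Grp.forget _).mapIso e
  haveI : IsImmersion (MTDescent.pullMap j' x).left := MTDescent.isImmersion_pullMap j' x
  haveI : Mono (MTDescent.pullMap j' x) := (Over.forget _).mono_of_mono_map
    (inferInstanceAs (Mono (MTDescent.pullMap j' x).left))
  haveI : IsMonHom e'.hom := e.hom.hom.isMonHom_hom
  have hp := MTDescent.isMonHom_pullMap j' x
  haveI : IsMonHom (MTDescent.pullMap j' x) := hp
  let w : Red.bc P.hom (Red.DS S M) ⟶ Red.bc P.hom G := e'.hom ≫ MTDescent.pullMap j' x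
  haveI : IsMonHom w := inferInstanceAs (IsMonHom (e'.hom ≫ MTDescent.pullMap j' x))
  haveI : Mono w := mono_comp _ _
  obtain ⟨φ, hφ, hφm, hφw⟩ := exists_fam_of_hom P.hom w
  obtain ⟨i, ⟨eq₀⟩⟩ := Typ.exists_equiv.{u} M
  let θ : M →+ i.Car := eq₀.symm.toAddMonoidHom
  let θ' : i.Car →+ M := eq₀.toAddMonoidHom
  have hθθ : θ'.comp θ = AddMonoidHom.id M := AddMonoidHom.ext fun m => eq₀.apply_symm_apply m
  have hθθ' : θ.comp θ' = AddMonoidHom.id i.Car := AddMonoidHom.ext fun m => eq₀.symm_apply_apply m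
  let φ' : Red.DS S i.Car ⊗ P ⟶ G := (Red.DSmap S θ ▷ P) ≫ φ
  have hφ' : AutFam.IsHomFamily (Red.DS S i.Car) G φ' := fun X a b t => by
    have hmul : (a * b) ≫ Red.DSmap S θ = (a ≫ Red.DSmap S θ) * (b ≫ Red.DSmap S θ) := by
      refine HomDiag.ch_ext fun m => ?_
      rw [HomDiag.ch_DSmap, HomDiag.ch_mul, HomDiag.ch_mul, HomDiag.ch_DSmap, HomDiag.ch_DSmap]
    simp only [φ', lift_whiskerRight_assoc, hmul]
    exact hφ X _ _ t
  have hφ'm : IsMonoFam φ' := fun X a b t he => by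
    simp only [φ', lift_whiskerRight_assoc] at he
    have h1 := congrArg (fun z => z ≫ Red.DSmap S θ') (hφm X _ _ t he)
    simpa only [Category.assoc, DSmap_comp, hθθ', DSmap_id, Category.comp_id] using h1
  obtain ⟨a, ha, -⟩ := (piece G i).univ P φ' hφ' hφ'm
  refine ⟨a ≫ (piece G i).p ≫ inc (fun i => (piece G i).Mo) i, fun X g t => ?_⟩
  have h1 : InIm φ' g t ↔ InIm (piece G i).υ g (t ≫ a) :=
    exists_congr fun z => by rw [← ha, lift_whiskerLeft_assoc]
  rw [← Category.assoc t a, inK_uj_iff, ← h1, inIm_reindex θ θ' hθθ, ← inK_pullMap_iff,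
    ← inK_iso e' (MTDescent.pullMap j' x)]
  have h2 := inK_homMap_iff P.hom φ g t
  rw [hφw] at h2
  exact h2

/-- **The classifying morphism.** -/
theorem exists_point {T : Over S} {K' : Over T.left} [GrpObj K'] (j' : K' ⟶ Red.bc T.hom G) [IsMonHom j']
    [IsImmersion j'.left] (hK : SGA3x.IsMultTypeFT K') (hf : IsFinite K'.hom) :
    ∃ v : T ⟶ Par G, ∀ (X : Over S) (g : X ⟶ G) (t : X ⟶ T), InK j' g t ↔ InK (uj G) g (t ≫ v) := by
  haveI := mono_uj G
  obtain ⟨T', π, hπf, hπs, hcov, hloc⟩ := hK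
  haveI := hπf
  haveI := hπs
  choose U hU M hM hMfg d using hloc
  letI : ∀ s, AddCommGroup (M s) := hM
  have hfin : ∀ s, Finite (M s) := by
    intro s
    haveI : Nonempty (U s : Scheme.{u}) := ⟨⟨s, hU s⟩⟩
    haveI : IsFinite (Red.bc ((U s).ι ≫ π) K').hom := MorphismProperty.pullback_snd _ _ hf
    refine finite_of_isFinite_DS (U := (U s : Scheme.{u})) ?_
    haveI : IsIso (d s).some.inv.hom.hom.left :=
      inferInstanceAs (IsIso ((Over.forget _).map ((Grp.forget _).map (d s).some.inv)))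
    rw [show (Red.DS (U s : Scheme.{u}) (M s)).hom =
      (d s).some.inv.hom.hom.left ≫ (Red.bc ((U s).ι ≫ π) K').hom from (Over.w (d s).some.inv.hom.hom).symm]
    infer_instance
  let T'O : Over S := Over.mk (π ≫ T.hom)
  let πO : T'O ⟶ T := Over.homMk π
  let P : T' → Over S := fun s => Over.mk ((U s).ι ≫ T'O.hom)
  let ιP : ∀ s, P s ⟶ T'O := fun s => Over.homMk (U s).ι
  have hpt : ∀ s, ∃ v : P s ⟶ Par G, ∀ (X : Over S) (g : X ⟶ G) (t : X ⟶ P s),
      InK j' g (t ≫ ιP s ≫ πO) ↔ InK (uj G) g (t ≫ v) := fun s => by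
    haveI := hfin s
    exact exists_point_split G j' (ιP s ≫ πO) (M s) (d s).some
  choose v hv using hpt
  let 𝒰 : Scheme.OpenCover.{u} T' := Scheme.Cover.mkOfCovers T' (fun s => (U s : Scheme.{u})) (fun s => (U s).ι)
    (fun s => ⟨s, ⟨s, hU s⟩, rfl⟩) fun s => inferInstance
  have compat : ∀ s s', pullback.fst (U s).ι (U s').ι ≫ (v s).left = pullback.snd (U s).ι (U s').ι ≫ (v s').left := by
    intro s s'
    let Z : Over S := Over.mk (pullback.fst (U s).ι (U s').ι ≫ (P s).hom)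
    let z : Z ⟶ P s := Over.homMk (pullback.fst _ _)
    let z' : Z ⟶ P s' := Over.homMk (pullback.snd _ _) (by
      show pullback.snd _ _ ≫ (U s').ι ≫ T'O.hom = pullback.fst _ _ ≫ (U s).ι ≫ T'O.hom
      rw [pullback.condition_assoc])
    refine congrArg CommaMorphism.left (eq_of_inK_iff G (z ≫ v s) (z' ≫ v s') fun X g t => ?_)
    rw [← Category.assoc, ← Category.assoc, ← hv, ← hv,
      show (t ≫ z) ≫ ιP s ≫ πO = (t ≫ z') ≫ ιP s' ≫ πO from Over.OverMorphism.ext (by
        show (t.left ≫ pullback.fst _ _) ≫ (U s).ι ≫ π = (t.left ≫ pullback.snd _ _) ≫ (U s').ι ≫ π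
        simp only [Category.assoc, pullback.condition_assoc])]
  let v' : T'O ⟶ Par G := Over.homMk (𝒰.glueMorphisms (fun s => (v s).left) compat) (𝒰.hom_ext _ _ fun s => by
    rw [← Category.assoc, 𝒰.ι_glueMorphisms]
    exact Over.w (v s))
  have hv'r : ∀ s, ιP s ≫ v' = v s := fun s => Over.OverMorphism.ext (by
    show 𝒰.f s ≫ 𝒰.glueMorphisms (fun s => (v s).left) compat = (v s).left
    exact 𝒰.ι_glueMorphisms _ _ s)
  have hv' : ∀ (X : Over S) (g : X ⟶ G) (t : X ⟶ T'O), InK j' g (t ≫ πO) ↔ InK (uj G) g (t ≫ v') := by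
    intro X g t
    let 𝒱 : Scheme.OpenCover.{u} X.left := 𝒰.pullback₁ t.left
    have key : ∀ k, InK j' ((Over.homMk (𝒱.f k) : Over.mk (𝒱.f k ≫ X.hom) ⟶ X) ≫ g)
          ((Over.homMk (𝒱.f k) : Over.mk (𝒱.f k ≫ X.hom) ⟶ X) ≫ t ≫ πO) ↔
        InK (uj G) ((Over.homMk (𝒱.f k) : Over.mk (𝒱.f k ≫ X.hom) ⟶ X) ≫ g)
          ((Over.homMk (𝒱.f k) : Over.mk (𝒱.f k ≫ X.hom) ⟶ X) ≫ t ≫ v') := by
      intro k
      let c : Over.mk (𝒱.f k ≫ X.hom) ⟶ X := Over.homMk (𝒱.f k)
      let t' : Over.mk (𝒱.f k ≫ X.hom) ⟶ P k := Over.homMk (pullback.snd t.left (U k).ι) (by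
        show pullback.snd t.left (U k).ι ≫ (U k).ι ≫ T'O.hom = pullback.fst t.left (U k).ι ≫ X.hom
        rw [← pullback.condition_assoc, Over.w t])
      have ht : t' ≫ ιP k = c ≫ t := Over.OverMorphism.ext pullback.condition.symm
      have h := hv k _ (c ≫ g) t'
      rw [reassoc_of% ht, ← hv'r, reassoc_of% ht] at h
      exact h
    exact ⟨fun h => inK_of_cover _ _ _ 𝒱 fun k => (key k).1 (h.comp _),
      fun h => inK_of_cover _ _ _ 𝒱 fun k => (key k).2 (h.comp _)⟩
  haveI hπe : EffectiveEpi π := by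
    rw [← Sieve.effectiveEpimorphic_singleton, Presieve.EffectiveEpimorphic.iff_forall_isSheafFor_yoneda]
    intro Z
    exact (GrothendieckTopology.Subcanonical.isSheaf_of_isRepresentable _).isSheafFor _
      (Precoverage.generate_mem_toGrothendieck (MTDescent.singleton_mem π hcov))
  have cond : ∀ {Z : Scheme.{u}} (g₁ g₂ : Z ⟶ T'), g₁ ≫ π = g₂ ≫ π → g₁ ≫ v'.left = g₂ ≫ v'.left := by
    intro Z g₁ g₂ e
    let ZO : Over S := Over.mk (g₁ ≫ π ≫ T.hom)
    let z₁ : ZO ⟶ T'O := Over.homMk g₁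
    let z₂ : ZO ⟶ T'O := Over.homMk g₂ (by
      show g₂ ≫ π ≫ T.hom = g₁ ≫ π ≫ T.hom
      rw [reassoc_of% e])
    refine congrArg CommaMorphism.left (eq_of_inK_iff G (z₁ ≫ v') (z₂ ≫ v') fun X g t => ?_)
    rw [← Category.assoc, ← Category.assoc, ← hv', ← hv',
      show (t ≫ z₁) ≫ πO = (t ≫ z₂) ≫ πO from Over.OverMorphism.ext (by
        show (t.left ≫ g₁) ≫ π = (t.left ≫ g₂) ≫ π
        simp only [Category.assoc, e])]
  let vT : T ⟶ Par G := Over.homMk (EffectiveEpi.desc π v'.left cond) (by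
    rw [← cancel_epi π, EffectiveEpi.fac_assoc]
    exact Over.w v')
  have hvT : πO ≫ vT = v' := Over.OverMorphism.ext (EffectiveEpi.fac π v'.left cond)
  refine ⟨vT, fun X g t => ?_⟩
  let X' : Over S := Over.mk (pullback.fst t.left π ≫ X.hom)
  let c : X' ⟶ X := Over.homMk (pullback.fst t.left π)
  let t' : X' ⟶ T'O := Over.homMk (pullback.snd t.left π) (by
    show pullback.snd t.left π ≫ π ≫ T.hom = pullback.fst t.left π ≫ X.hom
    rw [← pullback.condition_assoc, Over.w t])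
  have ht : t' ≫ πO = c ≫ t := Over.OverMorphism.ext pullback.condition.symm
  haveI : EffectiveEpi c.left := MTDescent.effectiveEpi_fst π hcov t.left
  have h := hv' X' (c ≫ g) t'
  rw [← hvT, reassoc_of% ht, ht] at h
  exact ⟨fun hh => inK_of_epi G _ c g _ (h.1 (hh.comp c)), fun hh => inK_of_epi G _ c g _ (h.2 (hh.comp c))⟩

end Groth.Agent.GrpSubRep
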