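import Groth.Agent.GrpSubRep.Glue

/-!
# Families of monomorphisms and their images
-/

set_option autoImplicit false
set_option linter.style.haveILetI false
set_option linter.unusedSectionVars false
set_option backward.isDefEq.respectTransparency false
set_option maxHeartbeats 1000000
set_option synthInstance.maxHeartbeats 400000

universe u

open CategoryTheory Limits MonoidalCategory CartesianMonoidalCategory AlgebraicGeometry
open scoped CategoryTheory.Obj MonObj

noncomputable section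

namespace Groth.Agent.GrpSubRep

open Groth.Agent.MTBridge

variable {S : Scheme.{u}} {G : Over S} [GrpObj G] {H : Over S} {B : Scheme.{u}} (j : B ⟶ S)

/-- A homomorphism over the parameter scheme comes from a family. -/
theorem exists_fam_of_hom [GrpObj H] (w : Red.bc j H ⟶ Red.bc j G) [IsMonHom w] [Mono w] :
    ∃ φ : H ⊗ Over.mk j ⟶ G, AutFam.IsHomFamily H G φ ∧ IsMonoFam φ ∧ homMap j φ = w := by
  let X₀ : Over B := Over.mk (snd H (Over.mk j)).left
  let ε := overIso (snd H (Over.mk j))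
  obtain ⟨c, hc⟩ := exists_toBC' j (toBC j (ε.hom ≫ fst H (Over.mk j)) ≫ w)
  let φ : H ⊗ Over.mk j ⟶ G := ε.inv ≫ c
  have key : ∀ {X : Over B} (a : (Over.map j).obj X ⟶ H), toBC j a ≫ w = toBC j (lift a (str j X) ≫ φ) := by
    intro X a
    let b := lift a (str j X)
    let b₀ : X ⟶ X₀ := Over.homMk b.left (by
      show b.left ≫ (snd H (Over.mk j)).left = X.hom
      rw [← Over.comp_left, lift_snd]
      rfl)
    have h1 : (Over.map j).map b₀ ≫ ε.hom = b := Over.OverMorphism.ext (Category.comp_id _)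
    have h2 : b₀ ≫ toBC j (ε.hom ≫ fst H (Over.mk j)) = toBC j a := by
      rw [← toBC_naturality, reassoc_of% h1]
      simp [b]
    have h3 : b₀ ≫ toBC j (ε.hom ≫ φ) = toBC j (b ≫ φ) := by rw [← toBC_naturality, reassoc_of% h1]
    rw [← h2, Category.assoc, ← hc, ← h3]
    simp [φ]
  have hmap : homMap j φ = w := by
    rw [← Category.id_comp w, ← Category.id_comp (homMap j φ)]
    obtain ⟨a, ha⟩ := exists_toBC' j (𝟙 (Red.bc j H))
    rw [← ha, key]
    exact homMap_apply j φ a
  refine ⟨φ, fun X a b t => ?_, ?_, hmap⟩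
  · let ε' := overIso t
    have hs : str j (Over.mk t.left) = ε'.hom ≫ t := Over.OverMorphism.ext (Category.id_comp _).symm
    have hk : ∀ z : X ⟶ H, toBC j (ε'.hom ≫ z) ≫ w = toBC j (ε'.hom ≫ lift z t ≫ φ) := fun z => by
      rw [key, hs, ← comp_lift_assoc]
    have h := hk (a * b)
    rw [MonObj.comp_mul, toBC_mul, MonObj.mul_comp, hk, hk, ← toBC_mul, ← MonObj.comp_mul] at h
    exact ((cancel_epi ε'.hom).1 (toBC_inj j h)).symm
  · rw [isMonoFam_iff, hmap]
    infer_instance

/-- Points of the image of a family. -/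
theorem inK_homMap_iff (φ : H ⊗ Over.mk j ⟶ G) {X : Over S} (g : X ⟶ G) (t : X ⟶ Over.mk j) :
    InK (M := Over.mk j) (homMap j φ) g t ↔ InIm φ g t := by
  let ε := overIso t
  have hs : str j (Over.mk t.left) = ε.hom ≫ t := Over.OverMorphism.ext (Category.id_comp _).symm
  rw [inK_iff]
  constructor
  · rintro ⟨k, hk⟩
    obtain ⟨a, rfl⟩ := exists_toBC' j k
    refine ⟨ε.inv ≫ a, ?_⟩
    have hk' : lift a (ε.hom ≫ t) ≫ φ = ε.hom ≫ g := toBC_inj j (by rw [← hs, ← homMap_apply j φ a]; exact hk)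
    rw [← cancel_epi ε.hom, comp_lift_assoc, Iso.hom_inv_id_assoc, hk']
  · rintro ⟨h, hh⟩
    refine ⟨toBC j (ε.hom ≫ h), ?_⟩
    rw [homMap_apply, hs, ← comp_lift_assoc, hh]
    rfl

/-- An isomorphism of the source does not change the image. -/
theorem inK_iso {M : Over S} {K K' : Over M.left} (e : K' ≅ K) (k : K ⟶ Red.bc M.hom G) {X : Over S} (g : X ⟶ G)
    (m : X ⟶ M) : InK (e.hom ≫ k) g m ↔ InK k g m :=
  ⟨fun ⟨l, hl⟩ => ⟨l ≫ e.hom.left, (Category.assoc _ _ _).trans hl⟩, fun ⟨l, hl⟩ => ⟨l ≫ e.inv.left, by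
    rw [Category.assoc, Over.comp_left, ← Category.assoc e.inv.left, ← Over.comp_left, e.inv_hom_id]
    simpa using hl⟩⟩

/-- Points of a pulled back subgroup. -/
theorem inK_pullMap_iff {P T : Over S} {K' : Over T.left} [GrpObj K'] (j' : K' ⟶ Red.bc T.hom G) (x : P ⟶ T)
    {X : Over S} (g : X ⟶ G) (t : X ⟶ P) :
    InK (MTDescent.pullMap j' x) g t ↔ InK j' g (t ≫ x) := by
  constructor
  · rintro ⟨l, hl⟩
    have h2 : l ≫ pullback.snd K'.hom x.left = t.left := inK_hom (MTDescent.pullMap j' x) hl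
    refine ⟨l ≫ pullback.fst K'.hom x.left, ?_⟩
    apply pullback.hom_ext
    · have h := congrArg (fun z => z ≫ pullback.fst G.hom P.hom) hl
      simpa [pt₂, MTDescent.pullMap] using h
    · rw [Category.assoc, Category.assoc, show j'.left ≫ pullback.snd G.hom T.hom = K'.hom from Over.w j',
        pullback.condition, reassoc_of% h2]
      simp [pt₂]
  · rintro ⟨l, hl⟩
    refine ⟨pullback.lift l t.left (inK_hom j' hl), ?_⟩
    apply pullback.hom_ext
    · have h := congrArg (fun z => z ≫ pullback.fst G.hom T.hom) hl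
      simpa [pt₂, MTDescent.pullMap] using h
    · simp [pt₂, MTDescent.pullMap]

/-- Reindexing a family by a map of characters. -/
theorem inIm_reindex {N N' : Type} [AddCommGroup N] [AddCommGroup N'] (θ : N →+ N') (θ' : N' →+ N)
    (h : θ'.comp θ = AddMonoidHom.id N) {T : Over S} (φ : Red.DS S N ⊗ T ⟶ G) {X : Over S} (g : X ⟶ G) (t : X ⟶ T) :
    InIm ((Red.DSmap S θ ▷ T) ≫ φ) g t ↔ InIm φ g t := by
  constructor
  · rintro ⟨z, hz⟩
    exact ⟨z ≫ Red.DSmap S θ, by rw [← hz, lift_whiskerRight_assoc]⟩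
  · rintro ⟨z, hz⟩
    refine ⟨z ≫ Red.DSmap S θ', ?_⟩
    rw [lift_whiskerRight_assoc, Category.assoc, show Red.DSmap S θ' ≫ Red.DSmap S θ = 𝟙 (Red.DS S N) from ?_,
      Category.comp_id, hz]
    refine HomDiag.ch_ext fun m => ?_
    rw [← Category.id_comp (Red.DSmap S θ' ≫ Red.DSmap S θ), ← Category.assoc, HomDiag.ch_DSmap, HomDiag.ch_DSmap]
    exact congrArg (HomDiag.ch (𝟙 (Red.DS S N))) (congrArg Multiplicative.ofAdd (DFunLike.congr_fun h m.toAdd))

end Groth.Agent.GrpSubRep
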