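import Groth.Agent.GrpSubRep.Rep
import Groth.Agent.HensPair.Sigma
import Groth.Agent.MTBridge.Centralizer
import Groth.Agent.MTDescent.SubgroupDescent

/-!
# Gluing families of subgroups along a coproduct of parameter schemes
-/

set_option autoImplicit false
set_option linter.style.haveILetI false
set_option linter.unusedSectionVars false
set_option backward.isDefEq.respectTransparency false
set_option maxHeartbeats 1000000
set_option synthInstance.maxHeartbeats 400000

universe u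

open CategoryTheory Limits MonoidalCategory CartesianMonoidalCategory AlgebraicGeometry
open scoped CategoryTheory.Obj MonObj

noncomputable section

namespace Groth.Agent.GrpSubRep

open Groth.Agent.MTBridge

variable {S : Scheme.{u}} {G : Over S} [GrpObj G] {M : Over S}

/-- A point with its parameter, seen over the parameter scheme. -/
def overIso {X : Over S} (m : X ⟶ M) : (Over.map M.hom).obj (Over.mk m.left) ≅ X :=
  Over.isoMk (Iso.refl _) ((Category.id_comp _).trans (Over.w m).symm)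

theorem pt₂_comp {X Y : Over S} (c : Y ⟶ X) (g : X ⟶ G) (m : X ⟶ M) : pt₂ (c ≫ g) (c ≫ m) = c.left ≫ pt₂ g m := by
  apply pullback.hom_ext <;> simp [pt₂]

theorem InK.comp {K : Over M.left} {j : K ⟶ Red.bc M.hom G} {X Y : Over S} {g : X ⟶ G} {m : X ⟶ M}
    (h : InK j g m) (c : Y ⟶ X) : InK j (c ≫ g) (c ≫ m) := by
  obtain ⟨l, hl⟩ := h
  exact ⟨c.left ≫ l, by rw [Category.assoc, hl, pt₂_comp]⟩

theorem inK_hom {K : Over M.left} (j : K ⟶ Red.bc M.hom G) {X : Over S} {g : X ⟶ G} {m : X ⟶ M}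
    {l : X.left ⟶ K.left} (hl : l ≫ j.left = pt₂ g m) : l ≫ K.hom = m.left := by
  rw [← Over.w j, ← Category.assoc, hl]
  exact pullback.lift_snd _ _ _

theorem inK_iff {K : Over M.left} (j : K ⟶ Red.bc M.hom G) {X : Over S} (g : X ⟶ G) (m : X ⟶ M) :
    InK j g m ↔ ∃ k : Over.mk m.left ⟶ K, k ≫ j = toBC M.hom ((overIso m).hom ≫ g) := by
  have key : (toBC M.hom ((overIso m).hom ≫ g)).left = pt₂ g m := by
    apply pullback.hom_ext
    · rw [MTDescent.left_toBC_fst_eq]
      simp [pt₂, overIso]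
    · exact (Over.w (toBC M.hom ((overIso m).hom ≫ g))).trans (pullback.lift_snd _ _ _).symm
  constructor
  · rintro ⟨l, hl⟩
    exact ⟨Over.homMk l (inK_hom j hl), Over.OverMorphism.ext (hl.trans key.symm)⟩
  · rintro ⟨k, hk⟩
    exact ⟨k.left, by rw [← Over.comp_left, hk, key]⟩

theorem inK_one {K : Over M.left} [GrpObj K] (j : K ⟶ Red.bc M.hom G) [IsMonHom j] {X : Over S} (m : X ⟶ M) :
    InK j (1 : X ⟶ G) m := by
  rw [inK_iff]
  refine ⟨1, ?_⟩
  rw [MonObj.one_comp, MonObj.comp_one]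
  have h := toBC_mul M.hom (1 : (Over.map M.hom).obj (Over.mk m.left) ⟶ G) 1
  rw [_root_.one_mul] at h
  exact left_eq_mul.1 h |>.symm

theorem toBC_inv {T : Scheme.{u}} (q : T ⟶ S) {X : Over T} (a : (Over.map q).obj X ⟶ G) :
    toBC q a⁻¹ = (toBC q a)⁻¹ := by
  have h1 : toBC q (1 : (Over.map q).obj X ⟶ G) = 1 := by
    have h := toBC_mul q (1 : (Over.map q).obj X ⟶ G) 1
    rw [_root_.one_mul] at h
    exact left_eq_mul.1 h
  exact eq_inv_of_mul_eq_one_left (by rw [← toBC_mul, inv_mul_cancel, h1])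

theorem inK_div {K : Over M.left} [GrpObj K] (j : K ⟶ Red.bc M.hom G) [IsMonHom j] {X : Over S} {g g' : X ⟶ G}
    {m : X ⟶ M} (h : InK j g m) (h' : InK j g' m) : InK j (g⁻¹ * g') m := by
  rw [inK_iff] at h h' ⊢
  obtain ⟨k, hk⟩ := h
  obtain ⟨k', hk'⟩ := h'
  refine ⟨k⁻¹ * k', ?_⟩
  rw [MonObj.mul_comp, GrpObj.inv_comp, hk, hk', MonObj.comp_mul, GrpObj.comp_inv, toBC_mul, toBC_inv]

/-- Being in a subgroup is local. -/
theorem inK_of_cover {K : Over M.left} (j : K ⟶ Red.bc M.hom G) [Mono j.left] {X : Over S} (g : X ⟶ G)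
    (m : X ⟶ M) (𝒰 : X.left.OpenCover)
    (h : ∀ i, InK j ((Over.homMk (𝒰.f i) : Over.mk (𝒰.f i ≫ X.hom) ⟶ X) ≫ g)
      ((Over.homMk (𝒰.f i) : Over.mk (𝒰.f i ≫ X.hom) ⟶ X) ≫ m)) : InK j g m := by
  choose l hl using h
  have hl' : ∀ i, l i ≫ j.left = 𝒰.f i ≫ pt₂ g m := fun i => (hl i).trans (pt₂_comp _ g m)
  refine ⟨𝒰.glueMorphisms l fun i i' => ?_, 𝒰.hom_ext _ _ fun i => ?_⟩
  · rw [← cancel_mono j.left, Category.assoc, Category.assoc, hl', hl', pullback.condition_assoc]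
  · rw [← Category.assoc, 𝒰.ι_glueMorphisms l]
    exact hl' i

section Glue

variable {Idx₀ : Type u} (Mo : Idx₀ → Over S)

/-- The coproduct of the parameter schemes. -/
def sigM : Over S := Over.mk (Sigma.desc fun i => (Mo i).hom)

/-- The inclusion of a parameter scheme. -/
def inc (i : Idx₀) : Mo i ⟶ sigM Mo := Over.homMk (Sigma.ι (fun i => (Mo i).left) i) (Sigma.ι_desc _ _)

variable {Mo}

/-- Points of a coproduct locally factor through the summands. -/
theorem exists_pieces {X : Over S} (m : X ⟶ sigM Mo) :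
    ∃ (𝒰 : Scheme.OpenCover.{u} X.left) (idx : 𝒰.I₀ → Idx₀)
      (mi : ∀ k, Over.mk (𝒰.f k ≫ X.hom) ⟶ Mo (idx k)),
      ∀ k, mi k ≫ inc Mo (idx k) = (Over.homMk (𝒰.f k) : Over.mk (𝒰.f k ≫ X.hom) ⟶ X) ≫ m := by
  let σ := sigmaOpenCover (fun i => (Mo i).left)
  refine ⟨σ.pullback₁ m.left, fun k => k, fun k => Over.homMk (pullback.snd m.left (σ.f k)) ?_, fun k => ?_⟩
  · show pullback.snd m.left (σ.f k) ≫ (Mo k).hom = pullback.fst m.left (σ.f k) ≫ X.hom
    rw [← Over.w m, pullback.condition_assoc]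
    show _ = _ ≫ Sigma.ι _ k ≫ Sigma.desc _
    rw [Sigma.ι_desc]
  · exact Over.OverMorphism.ext pullback.condition.symm

variable (K : ∀ i, Over (Mo i).left) (j : ∀ i, K i ⟶ Red.bc (Mo i).hom G)

/-- The glued subgroup. -/
def sigK : Over (sigM Mo).left := Over.mk (Limits.Sigma.map fun i => (K i).hom)

/-- The glued inclusion. -/
def sigJ : sigK K ⟶ Red.bc (sigM Mo).hom G :=
  Over.homMk (pullback.lift (Sigma.desc fun i => (j i).left ≫ pullback.fst G.hom (Mo i).hom) (sigK K).hom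
    (Sigma.hom_ext _ _ fun i => by
      simp [sigK, sigM, pullback.condition,
        reassoc_of% (show (j i).left ≫ pullback.snd G.hom (Mo i).hom = (K i).hom from Over.w (j i))]))
    (pullback.lift_snd _ _ _)

theorem isPullback_sigK (i : Idx₀) :
    IsPullback (Sigma.ι (fun i => (K i).left) i) (K i).hom (sigK K).hom (Sigma.ι (fun i => (Mo i).left) i) :=
  HensPair.isPullback_sigmaMap (fun i => (K i).hom) i

theorem inK_sigJ_iff {X : Over S} (g : X ⟶ G) {i : Idx₀} (t : X ⟶ Mo i) :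
    InK (sigJ K j) g (t ≫ inc Mo i) ↔ InK (j i) g t := by
  have hfst : ∀ i, Sigma.ι (fun i => (K i).left) i ≫ (sigJ K j).left ≫ pullback.fst G.hom (sigM Mo).hom =
      (j i).left ≫ pullback.fst G.hom (Mo i).hom := fun i => by
    simp [sigJ]
  constructor
  · rintro ⟨l, hl⟩
    have hm : l ≫ (sigK K).hom = t.left ≫ Sigma.ι (fun i => (Mo i).left) i := inK_hom (sigJ K j) hl
    refine ⟨(isPullback_sigK K i).lift l t.left hm, ?_⟩
    apply pullback.hom_ext
    · rw [Category.assoc, ← hfst, ← Category.assoc, IsPullback.lift_fst, ← Category.assoc, hl]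
      simp [pt₂]
    · rw [Category.assoc, show (j i).left ≫ pullback.snd G.hom (Mo i).hom = (K i).hom from Over.w (j i),
        IsPullback.lift_snd]
      simp [pt₂]
  · rintro ⟨l, hl⟩
    refine ⟨l ≫ Sigma.ι (fun i => (K i).left) i, ?_⟩
    apply pullback.hom_ext
    · rw [Category.assoc, Category.assoc, hfst, ← Category.assoc, hl]
      simp [pt₂]
    · rw [Category.assoc, Category.assoc, show (sigJ K j).left ≫ pullback.snd G.hom (sigM Mo).hom = (sigK K).hom
        from Over.w (sigJ K j)]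
      simp [pt₂, sigK, inc, reassoc_of% inK_hom (j i) hl]

theorem mono_sigJ [∀ i, Mono (j i).left] : Mono (sigJ K j).left := by
  refine ⟨fun {W} l₁ l₂ e => ?_⟩
  have hm : ∀ l : W ⟶ (sigK K).left, l ≫ (sigK K).hom =
      (l ≫ (sigJ K j).left) ≫ pullback.snd G.hom (sigM Mo).hom := fun l => by
    rw [Category.assoc]
    exact congrArg (l ≫ ·) (Over.w (sigJ K j)).symm
  have h12 : l₁ ≫ (sigK K).hom = l₂ ≫ (sigK K).hom := by rw [hm, hm, e]
  let 𝒰 : Scheme.OpenCover.{u} W := (sigmaOpenCover (fun i => (Mo i).left)).pullback₁ (l₁ ≫ (sigK K).hom)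
  refine 𝒰.hom_ext _ _ fun i => ?_
  have h0 : 𝒰.f i ≫ l₁ ≫ (sigK K).hom = pullback.snd (l₁ ≫ (sigK K).hom) (Sigma.ι (fun i => (Mo i).left) i) ≫
      Sigma.ι (fun i => (Mo i).left) i := pullback.condition
  let z₁ := (isPullback_sigK K i).lift (𝒰.f i ≫ l₁) _ ((Category.assoc _ _ _).trans h0)
  let z₂ := (isPullback_sigK K i).lift (𝒰.f i ≫ l₂) _ (by rw [Category.assoc, ← h12]; exact h0)
  have hz₁ : z₁ ≫ Sigma.ι (fun i => (K i).left) i = 𝒰.f i ≫ l₁ := IsPullback.lift_fst ..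
  have hz₂ : z₂ ≫ Sigma.ι (fun i => (K i).left) i = 𝒰.f i ≫ l₂ := IsPullback.lift_fst ..
  have hz : z₁ = z₂ := by
    rw [← cancel_mono (j i).left]
    apply pullback.hom_ext
    · have hf : Sigma.ι (fun i => (K i).left) i ≫ (sigJ K j).left ≫ pullback.fst G.hom (sigM Mo).hom =
          (j i).left ≫ pullback.fst G.hom (Mo i).hom := by simp [sigJ]
      rw [Category.assoc, Category.assoc, ← hf, reassoc_of% hz₁, reassoc_of% hz₂, reassoc_of% e]
    · rw [Category.assoc, Category.assoc, show (j i).left ≫ pullback.snd G.hom (Mo i).hom = (K i).hom from Over.w (j i)]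
      exact (IsPullback.lift_snd ..).trans (IsPullback.lift_snd ..).symm
  rw [← hz₁, ← hz₂, hz]

theorem isFinite_sigK (h : ∀ i, IsFinite (K i).hom) : IsFinite (sigK K).hom := by
  refine IsZariskiLocalAtTarget.of_openCover (P := @IsFinite) (sigmaOpenCover fun i => (Mo i).left) fun i => ?_
  show IsFinite (pullback.snd (sigK K).hom (Sigma.ι (fun i => (Mo i).left) i))
  rw [← (isPullback_sigK K i).isoPullback_inv_snd]
  haveI := h i
  infer_instance

/-- **The glued group.** -/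
theorem exists_grpObj_sigK [hK : ∀ i, GrpObj (K i)] [∀ i, IsMonHom (j i)] [∀ i, Mono (j i).left] :
    ∃ _ : GrpObj (sigK K), IsMonHom (sigJ K j) := by
  haveI hm := mono_sigJ K j
  haveI : Mono (sigJ K j) := (Over.forget _).mono_of_mono_map hm
  have hpt : ∀ {T : Over (sigM Mo).left} (a : (Over.map (sigM Mo).hom).obj T ⟶ G),
      (∃ k : T ⟶ sigK K, k ≫ sigJ K j = toBC _ a) ↔ InK (sigJ K j) a (str (sigM Mo).hom T) := by
    intro T a
    have key : (toBC (sigM Mo).hom a).left = pt₂ a (str (sigM Mo).hom T) := by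
      apply pullback.hom_ext
      · rw [MTDescent.left_toBC_fst_eq]
        exact (pullback.lift_fst _ _ _).symm
      · exact (Over.w (toBC (sigM Mo).hom a)).trans (pullback.lift_snd _ _ _).symm
    constructor
    · rintro ⟨k, hk⟩
      exact ⟨k.left, by rw [← key, ← hk]; rfl⟩
    · rintro ⟨l, hl⟩
      exact ⟨Over.homMk l (inK_hom _ hl), Over.OverMorphism.ext (hl.trans key.symm)⟩
  have hone : ∀ {X : Over S} (m : X ⟶ sigM Mo), InK (sigJ K j) (1 : X ⟶ G) m := fun {X} m => by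
    obtain ⟨𝒰, idx, mi, hmi⟩ := exists_pieces m
    refine inK_of_cover _ _ _ 𝒰 fun k => ?_
    rw [MonObj.comp_one, ← hmi k, inK_sigJ_iff]
    exact inK_one (j (idx k)) (mi k)
  have hdiv : ∀ {X : Over S} {g g' : X ⟶ G} {m : X ⟶ sigM Mo},
      InK (sigJ K j) g m → InK (sigJ K j) g' m → InK (sigJ K j) (g⁻¹ * g') m := fun {X g g' m} h h' => by
    obtain ⟨𝒰, idx, mi, hmi⟩ := exists_pieces m
    refine inK_of_cover _ _ _ 𝒰 fun k => ?_
    have h1 := h.comp (Over.homMk (𝒰.f k) : Over.mk (𝒰.f k ≫ X.hom) ⟶ X)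
    have h2 := h'.comp (Over.homMk (𝒰.f k) : Over.mk (𝒰.f k ≫ X.hom) ⟶ X)
    rw [← hmi k, inK_sigJ_iff] at h1 h2
    rw [MonObj.comp_mul, GrpObj.comp_inv, ← hmi k, inK_sigJ_iff]
    exact inK_div (j (idx k)) h1 h2
  refine exists_grpObj_of_div (sigJ K j) ?_ fun T k₁ k₂ => ?_
  · obtain ⟨e, he⟩ := (hpt (T := 𝟙_ (Over (sigM Mo).left)) 1).2 (hone _)
    refine ⟨e, he.trans ?_⟩
    have h := toBC_mul (sigM Mo).hom (1 : (Over.map (sigM Mo).hom).obj (𝟙_ (Over (sigM Mo).left)) ⟶ G) 1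
    rw [_root_.one_mul] at h
    rw [left_eq_mul.1 h, Hom.one_def, toUnit_unique (toUnit (𝟙_ _)) (𝟙 _), Category.id_comp]
  · obtain ⟨a₁, h₁⟩ := exists_toBC' _ (k₁ ≫ sigJ K j)
    obtain ⟨a₂, h₂⟩ := exists_toBC' _ (k₂ ≫ sigJ K j)
    obtain ⟨k₃, h₃⟩ := (hpt (a₁⁻¹ * a₂)).2 (hdiv ((hpt a₁).1 ⟨k₁, h₁.symm⟩) ((hpt a₂).1 ⟨k₂, h₂.symm⟩))
    exact ⟨k₃, by rw [h₃, toBC_mul, toBC_inv, h₁, h₂]⟩

/-- The glued group is of multiplicative type. -/
theorem isMultTypeFT_sigK [hK : ∀ i, GrpObj (K i)] [∀ i, IsMonHom (j i)] [∀ i, Mono (j i).left] [GrpObj (sigK K)]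
    [IsMonHom (sigJ K j)] (h : ∀ i, SGA3x.IsMultTypeFT (K i)) : SGA3x.IsMultTypeFT (sigK K) := by
  classical
  have e : ∀ i, Nonempty (Grp.mk (Red.bc (Sigma.ι (fun i => (Mo i).left) i) (sigK K)) ≅ Grp.mk (K i)) := by
    intro i
    let s := Sigma.ι (fun i => (Mo i).left) i
    let w : K i ⟶ Red.bc s (sigK K) :=
      Over.homMk (pullback.lift (Sigma.ι (fun i => (K i).left) i) (K i).hom (isPullback_sigK K i).w)
        (pullback.lift_snd _ _ _)
    haveI : IsIso w := by
      haveI : IsIso ((Over.forget _).map w) := by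
        show IsIso (pullback.lift (Sigma.ι (fun i => (K i).left) i) (K i).hom (isPullback_sigK K i).w)
        rw [show pullback.lift (Sigma.ι (fun i => (K i).left) i) (K i).hom (isPullback_sigK K i).w =
          (isPullback_sigK K i).isoPullback.hom by apply pullback.hom_ext <;> simp]
        infer_instance
      exact isIso_of_reflects_iso w (Over.forget _)
    haveI : IsMonHom w := by
      refine MTDescent.isMonHom_of_points _ fun X x y => ?_
      obtain ⟨a, ha⟩ := exists_toBC' s (x ≫ w)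
      obtain ⟨b, hb⟩ := exists_toBC' s (y ≫ w)
      have hl : ∀ (z : X ⟶ K i) (c : (Over.map s).obj X ⟶ sigK K), z ≫ w = toBC s c →
          c.left = z.left ≫ Sigma.ι (fun i => (K i).left) i := by
        intro z c hc
        rw [← MTDescent.left_toBC_fst_eq s c, ← hc]
        simp [w]
      obtain ⟨c, hc⟩ := exists_toBC' s ((x * y) ≫ w)
      replace ha := ha.symm
      replace hb := hb.symm
      replace hc := hc.symm
      rw [ha, hb, hc, ← toBC_mul]
      congr 1
      haveI : Mono (sigJ K j) := (Over.forget _).mono_of_mono_map (mono_sigJ K j)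
      rw [← cancel_mono (sigJ K j), MonObj.mul_comp]
      obtain ⟨a', ha'⟩ := exists_toBC' _ (a ≫ sigJ K j)
      obtain ⟨b', hb'⟩ := exists_toBC' _ (b ≫ sigJ K j)
      obtain ⟨c', hc'⟩ := exists_toBC' _ (c ≫ sigJ K j)
      replace ha' := ha'.symm
      replace hb' := hb'.symm
      replace hc' := hc'.symm
      rw [ha', hb', hc', ← toBC_mul]
      congr 1
      let ε : (Over.map (Mo i).hom).obj X ⟶ (Over.map (sigM Mo).hom).obj ((Over.map s).obj X) :=
        Over.homMk (𝟙 X.left) (by simp [sigM, s])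
      haveI : IsIso ε := by
        haveI : IsIso ((Over.forget S).map ε) := inferInstanceAs (IsIso (𝟙 X.left))
        exact isIso_of_reflects_iso ε (Over.forget S)
      have key : ∀ (z : X ⟶ K i) (c : (Over.map s).obj X ⟶ sigK K) (c' : _), z ≫ w = toBC s c →
          c ≫ sigJ K j = toBC (sigM Mo).hom c' → toBC (Mo i).hom (ε ≫ c') = z ≫ j i := by
        intro z c c' h1 h2
        apply Over.OverMorphism.ext
        apply pullback.hom_ext
        · have h4 : (ε ≫ c').left = (c ≫ sigJ K j).left ≫ pullback.fst G.hom (sigM Mo).hom := by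
            rw [h2, MTDescent.left_toBC_fst_eq]
            exact Category.id_comp _
          rw [MTDescent.left_toBC_fst_eq, h4, Over.comp_left, Over.comp_left, Category.assoc, Category.assoc,
            hl z c h1, Category.assoc]
          congr 1
          simp [sigJ]
        · exact (Over.w (toBC (Mo i).hom (ε ≫ c'))).trans (Over.w (z ≫ j i)).symm
      rw [← cancel_epi ε]
      apply toBC_inj (Mo i).hom
      rw [MonObj.comp_mul, toBC_mul, key x a a' ha ha', key y b b' hb hb', key (x * y) c c' hc hc', MonObj.mul_comp]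
    exact ⟨(Grp.mkIso' (asIso w)).symm⟩
  choose S' p hp hps hl hloc using h
  let φ : ∀ i, S' i ⟶ (sigM Mo).left := fun i => p i ≫ Sigma.ι (fun i => (Mo i).left) i
  haveI : ∀ i, Flat (φ i) := fun i => by haveI := hp i; infer_instance
  let f : (∐ S') ⟶ (sigM Mo).left := Sigma.desc φ
  haveI hflat : Flat f := IsZariskiLocalAtSource.sigmaDesc fun i => inferInstance
  have hφ : ∀ i z, f (Sigma.ι S' i z) = φ i z := fun i z => by
    show (Sigma.ι S' i ≫ f) z = _
    simp [f]
  refine ⟨∐ S', f, hflat, ⟨fun x => ?_⟩, fun V hV => ?_, fun s' => ?_⟩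
  · obtain ⟨⟨i, y⟩, rfl⟩ := (sigmaMk (fun i => (Mo i).left)).surjective x
    haveI := hps i
    obtain ⟨z, hz⟩ := (p i).surjective y
    refine ⟨Sigma.ι S' i z, ?_⟩
    rw [hφ, sigmaMk_mk]
    show (p i ≫ Sigma.ι (fun i => (Mo i).left) i) z = _
    rw [← hz]
    rfl
  · obtain ⟨F, hF⟩ := hV.isCompact.elim_finite_subcover
      (fun i => Set.range (Sigma.ι (fun i => (Mo i).left) i))
      (fun i => (Sigma.ι (fun i => (Mo i).left) i).isOpenEmbedding.isOpen_range)
      fun x _ => by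
        obtain ⟨⟨i, y⟩, rfl⟩ := (sigmaMk (fun i => (Mo i).left)).surjective x
        exact Set.mem_iUnion.2 ⟨i, y, (sigmaMk_mk (fun i => (Mo i).left) i y).symm⟩
    have hVi : ∀ i, IsAffineOpen (Sigma.ι (fun i => (Mo i).left) i ⁻¹ᵁ V) := fun i => by
      haveI := HensPair.isClosedImmersion_ι (X := fun i => (Mo i).left) i
      exact hV.preimage _
    choose W hW hWim using fun i => hl i _ (hVi i)
    refine ⟨⨆ i ∈ F, Sigma.ι S' i ''ᵁ W i, ?_, ?_⟩
    · rw [TopologicalSpace.Opens.coe_iSup]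
      simp only [TopologicalSpace.Opens.coe_iSup]
      exact F.finite_toSet.isCompact_biUnion fun i _ => (hW i).image (Sigma.ι S' i).continuous
    · ext x
      simp only [TopologicalSpace.Opens.coe_iSup, Set.image_iUnion, Set.mem_iUnion, Scheme.Hom.coe_image]
      constructor
      · rintro ⟨i, -, _, ⟨z, hz, rfl⟩, rfl⟩
        show f (Sigma.ι S' i z) ∈ V
        rw [hφ]
        exact (hWim i).subset ⟨z, hz, rfl⟩
      · intro hx
        obtain ⟨i, hi, y, rfl⟩ := by simpa only [Set.mem_iUnion] using hF hx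
        obtain ⟨z, hz, rfl⟩ := (hWim i).ge (show y ∈ Sigma.ι (fun i => (Mo i).left) i ⁻¹ᵁ V from hx)
        exact ⟨i, hi, _, ⟨z, hz, rfl⟩, hφ i z⟩
  · obtain ⟨⟨i, z⟩, rfl⟩ := (sigmaMk S').surjective s'
    obtain ⟨U, hU, N, hN, hNfg, ⟨d⟩⟩ := hloc i z
    let jj := U.ι ≫ Sigma.ι S' i
    refine ⟨jj.opensRange, ⟨⟨z, hU⟩, (sigmaMk_mk S' i z).symm⟩, N, hN, hNfg, ?_⟩
    have h1 : Nonempty (Grp.mk (Red.bc (U.ι ≫ φ i) (sigK K)) ≅ Grp.mk (Red.DS (U : Scheme.{u}) N)) :=
      ⟨bcCongr (Category.assoc _ _ _).symm (sigK K) ≪≫ bcComp _ (U.ι ≫ p i) (sigK K) ≪≫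
        bcMapIso _ (e i).some ≪≫ d⟩
    have h2 := nonempty_bc_split (H := sigK K) h1 jj.isoOpensRange.inv
    rwa [show jj.isoOpensRange.inv ≫ U.ι ≫ φ i = jj.opensRange.ι ≫ f by
      rw [← Scheme.Hom.isoOpensRange_inv_comp, Category.assoc]
      simp [jj, f]] at h2

end Glue

end Groth.Agent.GrpSubRep
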