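import Groth.Agent.GrpSubRep.Exist

/-!
# Representability of the finite subgroups of multiplicative type
-/

set_option autoImplicit false
set_option linter.style.haveILetI false
set_option linter.unusedSectionVars false
set_option backward.isDefEq.respectTransparency false
set_option maxHeartbeats 1000000
set_option synthInstance.maxHeartbeats 400000

universe u

open CategoryTheory Limits MonoidalCategory CartesianMonoidalCategory AlgebraicGeometry
open scoped CategoryTheory.Obj MonObj

noncomputable section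

namespace Groth.Agent.GrpSubRep

open Groth.Agent.MTBridge

variable {S : Scheme.{u}} {G : Over S} [GrpObj G]

/-- A subscheme and the pullback of another agree iff they have the same points. -/
theorem exists_iso_iff {M : Over S} {K : Over M.left} (j : K ⟶ Red.bc M.hom G) [Mono j.left] {T : Scheme.{u}}
    (f : T ⟶ S) {K' : Over T} (j' : K' ⟶ Red.bc f G) [Mono j'.left] (v : T ⟶ M.left) (hv : v ≫ M.hom = f) :
    (∃ φ : K'.left ≅ (Red.bc v K).left,
        φ.hom ≫ (Red.bc v K).hom = K'.hom ∧
        φ.hom ≫ ((Over.pullback v).map j).left ≫ pullback.fst (Red.bc M.hom G).hom v ≫ pullback.fst G.hom M.hom =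
          j'.left ≫ pullback.fst G.hom f) ↔
      ∀ (X : Over S) (g : X ⟶ G) (t : X ⟶ Over.mk f),
        InK (M := Over.mk f) j' g t ↔ InK j g (t ≫ (Over.homMk v hv : Over.mk f ⟶ M)) := by
  have hmap : ((Over.pullback v).map j).left ≫ pullback.fst (Red.bc M.hom G).hom v =
      pullback.fst K.hom v ≫ j.left := pullback.lift_fst _ _ _
  have hj : j.left ≫ pullback.snd G.hom M.hom = K.hom := Over.w j
  have hj' : j'.left ≫ pullback.snd G.hom f = K'.hom := Over.w j'
  constructor
  · rintro ⟨φ, hφ₁, hφ₂⟩ X g t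
    rw [reassoc_of% hmap] at hφ₂
    change φ.hom ≫ pullback.snd K.hom v = K'.hom at hφ₁
    constructor
    · rintro ⟨l, hl⟩
      refine ⟨l ≫ φ.hom ≫ pullback.fst K.hom v, pullback.hom_ext ?_ ?_⟩
      · have h0 := congrArg (fun z => z ≫ pullback.fst G.hom f) hl
        simp only [Category.assoc, hφ₂]
        simpa [pt₂] using h0
      · simp only [Category.assoc, hj, pullback.condition, reassoc_of% hφ₁]
        rw [← Category.assoc, show l ≫ K'.hom = t.left from inK_hom (M := Over.mk f) j' hl]
        simp [pt₂]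
    · rintro ⟨l, hl⟩
      have hm : l ≫ K.hom = t.left ≫ v := inK_hom j hl
      refine ⟨pullback.lift l t.left hm ≫ φ.inv, pullback.hom_ext ?_ ?_⟩
      · have h0 := congrArg (fun z => z ≫ pullback.fst G.hom M.hom) hl
        show (_ ≫ j'.left) ≫ pullback.fst G.hom f = pt₂ g t ≫ pullback.fst G.hom f
        rw [Category.assoc, Category.assoc, ← hφ₂, φ.inv_hom_id_assoc, pullback.lift_fst_assoc]
        simpa [pt₂] using h0
      · show (_ ≫ j'.left) ≫ pullback.snd G.hom f = pt₂ g t ≫ pullback.snd G.hom f
        rw [Category.assoc, Category.assoc, hj', ← hφ₁, φ.inv_hom_id_assoc, pullback.lift_snd]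
        simp [pt₂]
  · intro h
    let X₁ : Over S := Over.mk (K'.hom ≫ f)
    let g₁ : X₁ ⟶ G := Over.homMk (j'.left ≫ pullback.fst G.hom f) (by
      show (j'.left ≫ pullback.fst G.hom f) ≫ G.hom = K'.hom ≫ f
      rw [Category.assoc, pullback.condition, reassoc_of% hj'])
    let t₁ : X₁ ⟶ Over.mk f := Over.homMk K'.hom
    obtain ⟨l, hl⟩ := (h X₁ g₁ t₁).1 ⟨𝟙 K'.left, pullback.hom_ext
      (by simp [pt₂, g₁]; exact Category.id_comp _) (by simp [pt₂, t₁, hj']; exact Category.id_comp _)⟩
    have hl' : l ≫ K.hom = K'.hom ≫ v := inK_hom j hl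
    have hl₂ := congrArg (fun z => z ≫ pullback.fst G.hom M.hom) hl
    simp only [pt₂, pullback.lift_fst, Category.assoc, g₁, Over.homMk_left] at hl₂
    let X₂ : Over S := Over.mk (pullback.snd K.hom v ≫ f)
    let g₂ : X₂ ⟶ G := Over.homMk (pullback.fst K.hom v ≫ j.left ≫ pullback.fst G.hom M.hom) (by
      show (pullback.fst K.hom v ≫ j.left ≫ pullback.fst G.hom M.hom) ≫ G.hom = pullback.snd K.hom v ≫ f
      simp only [Category.assoc, pullback.condition, reassoc_of% hj, ← hv]
      rw [pullback.condition_assoc])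
    let t₂ : X₂ ⟶ Over.mk f := Over.homMk (pullback.snd K.hom v)
    obtain ⟨r, hr⟩ := (h X₂ g₂ t₂).2 ⟨pullback.fst K.hom v, pullback.hom_ext
      (by simp [pt₂, g₂]) (by simp [pt₂, t₂, hj, pullback.condition])⟩
    have hr₁ : r ≫ K'.hom = pullback.snd K.hom v := inK_hom (M := Over.mk f) j' hr
    have hr₂ := congrArg (fun z => z ≫ pullback.fst G.hom f) hr
    simp only [pt₂, Category.assoc, g₂, Over.homMk_left] at hr₂
    erw [pullback.lift_fst] at hr₂
    refine ⟨⟨pullback.lift l K'.hom hl', r, ?_, ?_⟩, pullback.lift_snd _ _ _, ?_⟩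
    · rw [← cancel_mono j'.left]
      refine pullback.hom_ext ?_ ?_
      · simp only [Category.assoc, Category.id_comp]
        rw [hr₂, pullback.lift_fst_assoc, hl₂]
      · simp only [Category.assoc, Category.id_comp]
        rw [hj', hr₁, pullback.lift_snd]
    · apply pullback.hom_ext
      · rw [← cancel_mono j.left]
        refine pullback.hom_ext ?_ ?_
        · simp only [Category.assoc, Category.id_comp, pullback.lift_fst_assoc]
          rw [hl₂, hr₂]
        · simp only [Category.assoc, Category.id_comp, pullback.lift_fst_assoc, hj, pullback.condition]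
          rw [hl', reassoc_of% hr₁]
      · simp only [Category.assoc, Category.id_comp, pullback.lift_snd]
        exact hr₁
    · rw [reassoc_of% hmap, pullback.lift_fst_assoc, hl₂]

variable [IsAffineHom G.hom] [LocallyOfFinitePresentation G.hom]

variable (G) in
/-- **The finite subgroups of multiplicative type are representable.** -/
theorem exists_represents :
    ∃ (M : Over S) (K : Over M.left) (_ : GrpObj K) (j : K ⟶ Red.bc M.hom G),
      (∀ m : ↥M.left, ∃ U : M.left.Opens, m ∈ U ∧ IsClosed (U : Set ↥M.left) ∧ IsAffineHom (U.ι ≫ M.hom)) ∧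
      IsMonHom j ∧ IsImmersion j.left ∧ SGA3x.IsMultTypeFT K ∧ IsFinite K.hom ∧
      (∀ (T : Scheme.{u}) (f : T ⟶ S) (K' : Over T) [GrpObj K'] (j' : K' ⟶ Red.bc f G),
        IsMonHom j' → IsImmersion j'.left → SGA3x.IsMultTypeFT K' → IsFinite K'.hom →
        ∃! v : T ⟶ M.left, v ≫ M.hom = f ∧
          ∃ φ : K'.left ≅ (Red.bc v K).left,
            φ.hom ≫ (Red.bc v K).hom = K'.hom ∧
            φ.hom ≫ ((Over.pullback v).map j).left ≫ pullback.fst (Red.bc M.hom G).hom v ≫ pullback.fst G.hom M.hom =
              j'.left ≫ pullback.fst G.hom f) ∧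
      LocallyOfFinitePresentation M.hom := by
  letI : ∀ i, GrpObj (piece G i).K := fun i => (piece G i).grp
  haveI : ∀ i, IsMonHom (piece G i).j := fun i => (piece G i).isMonHom
  haveI : ∀ i, Mono (piece G i).j.left := mono_piece G
  haveI hm := mono_uj G
  obtain ⟨hG, hj⟩ := exists_grpObj_sigK (fun i : Typ.{u} => (piece G i).K) fun i => (piece G i).j
  haveI := hj
  haveI hfin : IsFinite (UK G).hom := isFinite_sigK _ fun i => (piece G i).finite
  haveI : IsSeparated (Red.bc (Par G).hom G).hom := inferInstanceAs (IsSeparated (pullback.snd G.hom (Par G).hom))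
  haveI : IsProper ((uj G).left ≫ (Red.bc (Par G).hom G).hom) := by rw [Over.w (uj G)]; infer_instance
  haveI : IsProper (uj G).left := IsProper.of_comp (uj G).left (Red.bc (Par G).hom G).hom
  haveI : IsClosedImmersion (uj G).left := (IsClosedImmersion.iff_isProper_and_mono _).2 ⟨inferInstance, inferInstance⟩
  refine ⟨Par G, UK G, hG, uj G, fun m => ?_, hj, inferInstance,
    isMultTypeFT_sigK (fun i : Typ.{u} => (piece G i).K) (fun i => (piece G i).j) fun i => (piece G i).multType, hfin, ?_, ?_⟩
  · obtain ⟨⟨i, y⟩, rfl⟩ := (sigmaMk fun i : Typ.{u} => (piece G i).Mo.left).surjective m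
    let ιi := Sigma.ι (fun i : Typ.{u} => (piece G i).Mo.left) i
    haveI := HensPair.isClosedImmersion_ι (X := fun i : Typ.{u} => (piece G i).Mo.left) i
    haveI := (piece G i).affine
    refine ⟨ιi.opensRange, ⟨y, (sigmaMk_mk (fun i : Typ.{u} => (piece G i).Mo.left) i y).symm⟩,
      ιi.isClosedEmbedding.isClosed_range, ?_⟩
    rw [← Scheme.Hom.isoOpensRange_inv_comp, Category.assoc, show ιi ≫ (Par G).hom = (piece G i).Mo.hom from
      Sigma.ι_desc _ _]
    infer_instance
  · intro T f K' _ j' hj'1 hj'2 hK' hK'f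
    haveI := hj'1
    haveI := hj'2
    obtain ⟨v, hv⟩ := exists_point G (T := Over.mk f) j' hK' hK'f
    refine ⟨v.left, ⟨Over.w v, (exists_iso_iff (uj G) f j' v.left (Over.w v)).2 hv⟩, ?_⟩
    rintro w ⟨hw, hφ⟩
    have h := (exists_iso_iff (uj G) f j' w hw).1 hφ
    exact congrArg CommaMorphism.left (eq_of_inK_iff G (Over.homMk w hw : Over.mk f ⟶ Par G) v
      fun X g t => (h X g t).symm.trans (hv X g t))
  · haveI : ∀ i, LocallyOfFinitePresentation (piece G i).Mo.hom := fun i => (piece G i).lfp
    exact IsZariskiLocalAtSource.sigmaDesc fun i => (piece G i).lfp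

end Groth.Agent.GrpSubRep
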