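import Groth.Agent.GrpSubRep.Fam
import Groth.Agent.HomRep.HomScheme
import Groth.Agent.HomDiag.Local
import Groth.Agent.QuotScheme.Free
import Groth.Agent.QuotScheme.Props
import Groth.Agent.FpqcDescent.Props
import Groth.Agent.MTDescent.SubgroupDescent
import Groth.Agent.S0112

/-!
# The scheme of subgroups isomorphic to a given finite diagonalisable group
-/

set_option autoImplicit false
set_option linter.style.haveILetI false
set_option linter.unusedSectionVars false
set_option backward.isDefEq.respectTransparency false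
set_option maxHeartbeats 1000000
set_option synthInstance.maxHeartbeats 400000

universe u

open CategoryTheory Limits MonoidalCategory CartesianMonoidalCategory AlgebraicGeometry
open scoped CategoryTheory.Obj MonObj

noncomputable section

namespace Groth.Agent.GrpSubRep

open Groth.Agent.MTBridge

/-- Finite presentation descends along finite flat surjective morphisms. -/
theorem lfp_desc {X Y Z : Scheme.{u}} (p : X ⟶ Y) (q : Y ⟶ Z) [IsFinite p] [Flat p] [Surjective p]
    [LocallyOfFinitePresentation p] [IsAffineHom q] [LocallyOfFinitePresentation (p ≫ q)] :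
    LocallyOfFinitePresentation q := by
  have aff : ∀ {X Y Z : Scheme.{u}} (p : X ⟶ Y) (q : Y ⟶ Z) [IsAffine X] [IsAffine Y] [IsAffine Z]
      [Flat p] [Surjective p] [LocallyOfFinitePresentation p] [LocallyOfFinitePresentation (p ≫ q)],
      LocallyOfFinitePresentation q := by
    intro X Y Z p q _ _ _ _ _ _ _
    rw [HasRingHomProperty.iff_of_isAffine (P := @LocallyOfFinitePresentation)]
    have h1 : p.appTop.hom.FinitePresentation :=
      (HasRingHomProperty.iff_of_isAffine (P := @LocallyOfFinitePresentation)).1 inferInstance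
    have h2 : (q.appTop ≫ p.appTop).hom.FinitePresentation := by
      rw [← Scheme.Hom.comp_appTop]
      exact (HasRingHomProperty.iff_of_isAffine (P := @LocallyOfFinitePresentation)).1 inferInstance
    have h3 : p.appTop.hom.Flat := (HasRingHomProperty.iff_of_isAffine (P := @Flat)).1 inferInstance
    have h4 : Function.Surjective (PrimeSpectrum.comap p.appTop.hom) :=
      (AlgebraicGeometry.surjective_iff _).1
        ((MorphismProperty.arrow_mk_iso_iff @Surjective (arrowIsoSpecΓOfIsAffine p)).1 inferInstance)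
    algebraize [q.appTop.hom, p.appTop.hom, (p.appTop.hom).comp q.appTop.hom]
    haveI : Module.FaithfullyFlat Γ(Y, ⊤) Γ(X, ⊤) := .of_comap_surjective h4
    exact Groth.Agent.S0112.result (B := Γ(X, ⊤))
  refine IsZariskiLocalAtTarget.of_iSup_eq_top (fun W : Z.affineOpens => W.1) (iSup_affineOpens_eq_top Z)
    fun W => ?_
  haveI : IsAffine (W.1 : Scheme.{u}) := W.2
  haveI : IsAffine (q ⁻¹ᵁ W.1 : Scheme.{u}) := W.2.preimage q
  haveI : IsAffine (p ⁻¹ᵁ (q ⁻¹ᵁ W.1) : Scheme.{u}) := (W.2.preimage q).preimage p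
  haveI : Flat (p ∣_ (q ⁻¹ᵁ W.1)) := IsZariskiLocalAtTarget.restrict ‹_› _
  haveI : Surjective (p ∣_ (q ⁻¹ᵁ W.1)) := IsZariskiLocalAtTarget.restrict ‹_› _
  haveI : LocallyOfFinitePresentation (p ∣_ (q ⁻¹ᵁ W.1)) := IsZariskiLocalAtTarget.restrict ‹_› _
  haveI : LocallyOfFinitePresentation ((p ≫ q) ∣_ W.1) := IsZariskiLocalAtTarget.restrict ‹_› _
  haveI : LocallyOfFinitePresentation (p ∣_ (q ⁻¹ᵁ W.1) ≫ q ∣_ W.1) := by
    rw [← morphismRestrict_comp]
    infer_instance
  exact aff (p ∣_ (q ⁻¹ᵁ W.1)) (q ∣_ W.1)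

variable {S : Scheme.{u}} {G : Over S} [GrpObj G]

section Mono

variable (N : Type) [AddCommGroup N] [Finite N]

/-- **The scheme of monomorphisms from a finite diagonalisable group.** -/
theorem exists_monoScheme [IsAffineHom G.hom] [LocallyOfFinitePresentation G.hom] :
    ∃ (U : Over S) (υ : Red.DS S N ⊗ U ⟶ G), IsAffineHom U.hom ∧ LocallyOfFinitePresentation U.hom ∧
      AutFam.IsHomFamily (Red.DS S N) G υ ∧ IsMonoFam υ ∧
      ∀ (T : Over S) (φ : Red.DS S N ⊗ T ⟶ G), AutFam.IsHomFamily (Red.DS S N) G φ → IsMonoFam φ →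
        ∃! a : T ⟶ U, (Red.DS S N ◁ a) ≫ υ = φ := by
  obtain ⟨h1, h2, h3⟩ := isFinite_DS S N
  haveI := h1
  haveI := h2
  haveI := h3
  obtain ⟨A, υ, ⟨hhom, huniv⟩, hAa, -, hAfp⟩ := Groth.Agent.HomRep.exists_homGrpScheme (Red.DS S N) G
  haveI := hAa
  haveI := hAfp inferInstance
  obtain ⟨V, hVc, hV⟩ := exists_mono_locus N υ hhom
  haveI : IsClosedImmersion V.ι := IsClosedImmersion.of_isPreimmersion V.ι (by rw [Scheme.Opens.range_ι]; exact hVc)
  let U : Over S := Over.mk (V.ι ≫ A.hom)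
  let c : U ⟶ A := Over.homMk V.ι
  haveI : Mono c := (Over.forget S).mono_of_mono_map (inferInstanceAs (Mono V.ι))
  refine ⟨U, (Red.DS S N ◁ c) ≫ υ, inferInstanceAs (IsAffineHom (V.ι ≫ A.hom)),
    inferInstanceAs (LocallyOfFinitePresentation (V.ι ≫ A.hom)), fun X a b t => ?_, ?_, fun T φ hφ hm => ?_⟩
  · simp only [lift_whiskerLeft_assoc]
    exact hhom X a b (t ≫ c)
  · exact (hV U c).2 (by show Set.range V.ι ⊆ _; rw [Scheme.Opens.range_ι])
  · obtain ⟨a, ha, hu⟩ := huniv T φ hφ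
    have hr : Set.range a.left ⊆ V := (hV T a).1 (by rw [ha]; exact hm)
    let l : T.left ⟶ (V : Scheme.{u}) := IsOpenImmersion.lift V.ι a.left (by rw [Scheme.Opens.range_ι]; exact hr)
    let a' : T ⟶ U := Over.homMk l (by
      show l ≫ V.ι ≫ A.hom = T.hom
      rw [IsOpenImmersion.lift_fac_assoc]
      exact Over.w a)
    have ha' : a' ≫ c = a := Over.OverMorphism.ext (IsOpenImmersion.lift_fac _ _ _)
    refine ⟨a', ?_, fun b hb => ?_⟩
    · dsimp only
      rw [← whiskerLeft_comp_assoc, ha', ha]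
    · dsimp only at hb
      rw [← whiskerLeft_comp_assoc] at hb
      rw [← cancel_mono c, ha']
      exact hu _ hb

end Mono

/-- The points of the image of a family. -/
def InIm {H U : Over S} (υ : H ⊗ U ⟶ G) {X : Over S} (g : X ⟶ G) (t : X ⟶ U) : Prop :=
  ∃ h : X ⟶ H, lift h t ≫ υ = g

/-- The point of a base change. -/
def pt₂ {M X : Over S} (g : X ⟶ G) (m : X ⟶ M) : X.left ⟶ pullback G.hom M.hom :=
  pullback.lift g.left m.left ((Over.w g).trans (Over.w m).symm)

/-- The points of a subgroup over a parameter scheme. -/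
def InK {M : Over S} {K : Over M.left} (j : K ⟶ Red.bc M.hom G) {X : Over S} (g : X ⟶ G) (m : X ⟶ M) : Prop :=
  ∃ l : X.left ⟶ K.left, l ≫ j.left = pt₂ g m

/-- Being in the image of a family of monomorphisms is local. -/
theorem inIm_of_cover {H U : Over S} {υ : H ⊗ U ⟶ G} (hυ : IsMonoFam υ) {X : Over S} (g : X ⟶ G) (t : X ⟶ U)
    (𝒰 : X.left.OpenCover)
    (h : ∀ i, InIm υ ((Over.homMk (𝒰.f i) : Over.mk (𝒰.f i ≫ X.hom) ⟶ X) ≫ g)
      ((Over.homMk (𝒰.f i) : Over.mk (𝒰.f i ≫ X.hom) ⟶ X) ≫ t)) : InIm υ g t := by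
  choose z hz using h
  have compat : ∀ i i', pullback.fst (𝒰.f i) (𝒰.f i') ≫ (z i).left = pullback.snd (𝒰.f i) (𝒰.f i') ≫ (z i').left := by
    intro i i'
    let P : Over S := Over.mk (pullback.fst (𝒰.f i) (𝒰.f i') ≫ 𝒰.f i ≫ X.hom)
    let a : P ⟶ Over.mk (𝒰.f i ≫ X.hom) := Over.homMk (pullback.fst _ _)
    let b : P ⟶ Over.mk (𝒰.f i' ≫ X.hom) := Over.homMk (pullback.snd _ _) (by
      show pullback.snd _ _ ≫ 𝒰.f i' ≫ X.hom = pullback.fst _ _ ≫ 𝒰.f i ≫ X.hom
      rw [pullback.condition_assoc])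
    let mi : Over.mk (𝒰.f i ≫ X.hom) ⟶ X := Over.homMk (𝒰.f i)
    let mi' : Over.mk (𝒰.f i' ≫ X.hom) ⟶ X := Over.homMk (𝒰.f i')
    have hab : a ≫ mi = b ≫ mi' := Over.OverMorphism.ext pullback.condition
    refine congrArg CommaMorphism.left (hυ P (a ≫ z i) (b ≫ z i') (a ≫ mi ≫ t) ?_)
    rw [← comp_lift_assoc, hz i, ← Category.assoc a mi t, hab, Category.assoc, ← comp_lift_assoc, hz i',
      ← Category.assoc a mi g, hab, Category.assoc]
  let h₀ : X ⟶ H := Over.homMk (𝒰.glueMorphisms (fun i => (z i).left) compat) (𝒰.hom_ext _ _ fun i => by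
    rw [← Category.assoc, 𝒰.ι_glueMorphisms]
    exact Over.w (z i))
  have key : ∀ i, (Over.homMk (𝒰.f i) : Over.mk (𝒰.f i ≫ X.hom) ⟶ X) ≫ h₀ = z i := fun i =>
    Over.OverMorphism.ext (by
      show 𝒰.f i ≫ 𝒰.glueMorphisms (fun i => (z i).left) compat = (z i).left
      exact 𝒰.ι_glueMorphisms (fun i => (z i).left) compat i)
  have key2 : ∀ i, (Over.homMk (𝒰.f i) : Over.mk (𝒰.f i ≫ X.hom) ⟶ X) ≫ lift h₀ t ≫ υ =
      (Over.homMk (𝒰.f i) : Over.mk (𝒰.f i ≫ X.hom) ⟶ X) ≫ g := fun i => by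
    rw [comp_lift_assoc, key i, hz i]
  refine ⟨h₀, Over.OverMorphism.ext (𝒰.hom_ext _ _ fun i => ?_)⟩
  exact congrArg CommaMorphism.left (key2 i)

section Action

variable {N : Type} [AddCommGroup N]

/-- An automorphism of the character group. -/
def toHom (σ : MulAut (Multiplicative N)) : N →+ N :=
  AddMonoidHom.mk' (fun n => (σ (Multiplicative.ofAdd n)).toAdd) fun a b => by simp

theorem toHom_apply (σ : MulAut (Multiplicative N)) (n : N) : toHom σ n = (σ (Multiplicative.ofAdd n)).toAdd := rfl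

theorem DSmap_toHom_mul (σ τ : MulAut (Multiplicative N)) :
    Red.DSmap S (toHom (σ * τ)) = Red.DSmap S (toHom σ) ≫ Red.DSmap S (toHom τ) := by
  refine HomDiag.ch_ext fun m => ?_
  rw [← Category.id_comp (Red.DSmap S (toHom (σ * τ))),
    ← Category.id_comp (Red.DSmap S (toHom σ) ≫ Red.DSmap S (toHom τ)), ← Category.assoc, HomDiag.ch_DSmap,
    HomDiag.ch_DSmap, HomDiag.ch_DSmap]
  rfl

theorem DSmap_toHom_one : Red.DSmap S (toHom (1 : MulAut (Multiplicative N))) = 𝟙 (Red.DS S N) := by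
  refine HomDiag.ch_ext fun m => ?_
  rw [← Category.id_comp (Red.DSmap S (toHom (1 : MulAut (Multiplicative N)))), HomDiag.ch_DSmap]
  rfl

theorem DSmap_hom (θ : N →+ N) {X : Over S} (a b : X ⟶ Red.DS S N) :
    (a * b) ≫ Red.DSmap S θ = (a ≫ Red.DSmap S θ) * (b ≫ Red.DSmap S θ) := by
  refine HomDiag.ch_ext fun m => ?_
  rw [HomDiag.ch_DSmap, HomDiag.ch_mul, HomDiag.ch_mul, HomDiag.ch_DSmap, HomDiag.ch_DSmap]

variable [Finite N]

/-- The quotient of the scheme of monomorphisms by the automorphisms of the group. -/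
theorem exists_quot {U : Over S} {υ : Red.DS S N ⊗ U ⟶ G} (hUa : IsAffineHom U.hom)
    (hUf : LocallyOfFinitePresentation U.hom)
    (hυ : AutFam.IsHomFamily (Red.DS S N) G υ) (hm : IsMonoFam υ)
    (huniv : ∀ (T : Over S) (φ : Red.DS S N ⊗ T ⟶ G), AutFam.IsHomFamily (Red.DS S N) G φ → IsMonoFam φ →
      ∃! a : T ⟶ U, (Red.DS S N ◁ a) ≫ υ = φ) :
    ∃ (Mo : Over S) (p : U ⟶ Mo), IsAffineHom Mo.hom ∧ LocallyOfFinitePresentation Mo.hom ∧
      Etale p.left ∧ Flat p.left ∧ Surjective p.left ∧ QuasiCompact p.left ∧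
      (∀ {X : Over S} (g : X ⟶ G) (t₁ t₂ : X ⟶ U), t₁ ≫ p = t₂ ≫ p → InIm υ g t₁ → InIm υ g t₂) ∧
      ∀ (T : Over S) (φ : Red.DS S N ⊗ T ⟶ G) (a b : T ⟶ U) (σ : MulAut (Multiplicative N)),
        (Red.DS S N ◁ a) ≫ υ = φ → (Red.DS S N ◁ b) ≫ υ = (Red.DSmap S (toHom σ) ▷ T) ≫ φ → a ≫ p = b ≫ p := by
  haveI := hUa
  haveI := hUf
  let act : MulAut (Multiplicative N) → (Red.DS S N ⊗ U ⟶ G) := fun σ => (Red.DSmap S (toHom σ) ▷ U) ≫ υ
  have hact : ∀ σ, AutFam.IsHomFamily (Red.DS S N) G (act σ) ∧ IsMonoFam (act σ) := by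
    refine fun σ => ⟨fun X a b t => ?_, fun X a b t e => ?_⟩
    · simp only [act, lift_whiskerRight_assoc, DSmap_hom]
      exact hυ X _ _ t
    · simp only [act, lift_whiskerRight_assoc] at e
      have h := congrArg (fun z => z ≫ Red.DSmap S (toHom σ⁻¹)) (hm X _ _ t e)
      simp only [Category.assoc, ← DSmap_toHom_mul, mul_inv_cancel, DSmap_toHom_one, Category.comp_id] at h
      exact h
  choose r hr hru using fun σ => huniv U (act σ) (hact σ).1 (hact σ).2
  have hr' : ∀ (σ : MulAut (Multiplicative N)) {X : Over S} (h : X ⟶ Red.DS S N) (t : X ⟶ U),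
      lift h (t ≫ r σ) ≫ υ = lift (h ≫ Red.DSmap S (toHom σ)) t ≫ υ := fun σ X h t => by
    rw [← lift_whiskerLeft_assoc, hr σ]
    simp only [act, lift_whiskerRight_assoc]
  have hfamU : ∀ {T : Over S} (x : T ⟶ U), AutFam.IsHomFamily (Red.DS S N) G ((Red.DS S N ◁ x) ≫ υ) :=
    fun x X a b t => by
      simp only [lift_whiskerLeft_assoc]
      exact hυ X a b (t ≫ x)
  have hext : ∀ {T : Over S} (x y : T ⟶ U), (∀ (X : Over S) (h : X ⟶ Red.DS S N) (t : X ⟶ T),
      lift h (t ≫ x) ≫ υ = lift h (t ≫ y) ≫ υ) → x = y := by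
    intro T x y h
    refine (huniv T _ (hfamU y) (hm.restrict y)).unique ?_ rfl
    have h' := h (Red.DS S N ⊗ T) (fst _ _) (snd _ _)
    rw [← lift_whiskerLeft_assoc, ← lift_whiskerLeft_assoc, lift_fst_snd, Category.id_comp, Category.id_comp] at h'
    exact h'
  have hr1 : r 1 = 𝟙 U := hext _ _ fun X h t => by
    rw [hr', DSmap_toHom_one, Category.comp_id, Category.comp_id]
  have hrmul : ∀ σ τ, r (σ * τ) = r τ ≫ r σ := fun σ τ => hext _ _ fun X h t => by
    rw [← Category.assoc t (r τ) (r σ), hr', hr', hr', DSmap_toHom_mul, Category.assoc]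
  let Γ₀ := ULift.{u} (MulAut (Multiplicative N))
  haveI : Finite (Multiplicative N) := ‹Finite N›
  haveI : Finite (MulAut (Multiplicative N)) := Finite.of_injective (fun σ => ⇑σ) DFunLike.coe_injective
  let ρ : Γ₀ →* Aut U.left :=
    { toFun := fun σ =>
        { hom := (r σ.down).left
          inv := (r σ.down⁻¹).left
          hom_inv_id := by rw [← Over.comp_left, ← hrmul, inv_mul_cancel, hr1]; rfl
          inv_hom_id := by rw [← Over.comp_left, ← hrmul, mul_inv_cancel, hr1]; rfl }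
      map_one' := Iso.ext (by show (r 1).left = _; rw [hr1]; rfl)
      map_mul' := fun σ τ => Iso.ext (by show (r (σ.down * τ.down)).left = _; rw [hrmul]; rfl) }
  have hfree : QuotScheme.IsFree ρ := by
    intro K _ _ ξ σ hξ
    let X : Over S := Over.mk (ξ ≫ U.hom)
    let t : X ⟶ U := Over.homMk ξ
    have ht : t ≫ r σ.down = t := Over.OverMorphism.ext hξ
    have h1 : fst (Red.DS S N) X ≫ Red.DSmap S (toHom σ.down) = fst (Red.DS S N) X ≫ Red.DSmap S (toHom 1) := by
      rw [DSmap_toHom_one, Category.comp_id]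
      refine hm _ _ _ (snd _ _ ≫ t) ?_
      rw [← hr', Category.assoc, ht]
    haveI : Nonempty X.left := inferInstanceAs (Nonempty (Spec (CommRingCat.of K)))
    have h2 := HomDiag.DSmap_inj h1
    refine ULift.ext _ _ (MulEquiv.ext fun n => ?_)
    exact Multiplicative.toAdd.injective (DFunLike.congr_fun h2 (Multiplicative.toAdd n))
  obtain ⟨Y, p, hp⟩ := QuotScheme.exists_isQuot ρ fun x => by
    obtain ⟨_, ⟨V, hV, rfl⟩, hxV, -⟩ :=
      S.isBasis_affineOpens.exists_subset_of_mem_open (Set.mem_univ (U.hom x)) isOpen_univ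
    refine ⟨U.hom ⁻¹ᵁ V, hV.preimage U.hom, fun g => ?_⟩
    show ((r g.down).left ≫ U.hom) x ∈ V
    rw [Over.w]
    exact hxV
  obtain ⟨q, hq, -⟩ := QuotScheme.existsUnique_desc hp U.hom fun g => Over.w (r g.down)
  haveI hqa : IsAffineHom q := (QuotScheme.isAffineHom_iff hp hq).1 inferInstance
  haveI : Etale p := QuotScheme.etaleHom_of_free hp hfree
  haveI : IsFinite p := QuotScheme.isFinite_of_isQuot hp hq
  haveI : Surjective p := ⟨QuotScheme.surjective hp⟩
  haveI : LocallyOfFinitePresentation (p ≫ q) := by rw [hq]; infer_instance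
  haveI hqf : LocallyOfFinitePresentation q := lfp_desc p q
  let Mo : Over S := Over.mk q
  let pO : U ⟶ Mo := Over.homMk p hq
  haveI hΦ := QuotScheme.isIso_graphs hp hfree
  refine ⟨Mo, pO, hqa, hqf, inferInstanceAs (Etale p), inferInstanceAs (Flat p), inferInstanceAs (Surjective p),
    inferInstanceAs (QuasiCompact p), ?_, ?_⟩
  · intro X g t₁ t₂ e hin
    have e' : t₁.left ≫ p = t₂.left ≫ p := congrArg CommaMorphism.left e
    obtain ⟨h, hh⟩ := hin
    let w : X.left ⟶ ∐ fun _ : Γ₀ => U.left := pullback.lift t₁.left t₂.left e' ≫ CategoryTheory.inv (Sigma.desc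
      (fun gm : Γ₀ => pullback.lift (𝟙 U.left) (ρ gm).hom ((Category.id_comp p).trans (hp.inv gm).symm)))
    let 𝒰 : X.left.OpenCover := (sigmaOpenCover fun _ : Γ₀ => U.left).pullback₁ w
    refine inIm_of_cover hm g t₂ 𝒰 fun gm => ?_
    let m : Over.mk (𝒰.f gm ≫ X.hom) ⟶ X := Over.homMk (𝒰.f gm)
    let z : (𝒰.X gm) ⟶ U.left := pullback.snd w ((sigmaOpenCover fun _ : Γ₀ => U.left).f gm)
    have hz : 𝒰.f gm ≫ pullback.lift t₁.left t₂.left e' =
        z ≫ pullback.lift (𝟙 U.left) (ρ gm).hom ((Category.id_comp p).trans (hp.inv gm).symm) := by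
      have h0 : 𝒰.f gm ≫ w = z ≫ Sigma.ι (fun _ : Γ₀ => U.left) gm := pullback.condition
      have h1 := congrArg (fun k => k ≫ Sigma.desc
        (fun gm : Γ₀ => pullback.lift (𝟙 U.left) (ρ gm).hom ((Category.id_comp p).trans (hp.inv gm).symm))) h0
      simpa only [w, Category.assoc, IsIso.inv_hom_id, Category.comp_id, Sigma.ι_desc] using h1
    have hz1 := congrArg (fun k => k ≫ pullback.fst p p) hz
    have hz2 := congrArg (fun k => k ≫ pullback.snd p p) hz
    simp only [Category.assoc, pullback.lift_fst, pullback.lift_snd, Category.comp_id] at hz1 hz2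
    have ht : m ≫ t₂ = (m ≫ t₁) ≫ r gm.down := Over.OverMorphism.ext (by
      show 𝒰.f gm ≫ t₂.left = (𝒰.f gm ≫ t₁.left) ≫ (r gm.down).left
      rw [hz2, hz1]
      rfl)
    refine ⟨(m ≫ h) ≫ Red.DSmap S (toHom gm.down⁻¹), ?_⟩
    rw [ht, hr', Category.assoc, ← DSmap_toHom_mul, inv_mul_cancel, DSmap_toHom_one, Category.comp_id,
      ← comp_lift_assoc, hh]
  · intro T φ₀ a b σ ha hb
    have h : b = a ≫ r σ := hext _ _ fun X h t => by
      rw [← Category.assoc t a (r σ), hr', ← lift_whiskerLeft_assoc h t b, hb, lift_whiskerRight_assoc,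
        ← ha, lift_whiskerLeft_assoc]
    rw [h]
    exact Over.OverMorphism.ext (by
      show a.left ≫ p = (a.left ≫ (ρ ⟨σ⟩).hom) ≫ p
      rw [Category.assoc, hp.inv])

end Action

section Image

variable {H U Mo : Over S}

/-- Forgetting the intermediate scheme. -/
def epsO (p : U ⟶ Mo) (X : Over U.left) :
    (Over.map Mo.hom).obj ((Over.map p.left).obj X) ⟶ (Over.map U.hom).obj X :=
  Over.homMk (𝟙 X.left) (by simp [Over.w p])

/-- A family, as a morphism over the source of a morphism of parameter schemes. -/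
def bigHom (p : U ⟶ Mo) (υ : H ⊗ U ⟶ G) : Red.bc U.hom H ⟶ Red.bc p.left (Red.bc Mo.hom G) :=
  toBC p.left (toBC Mo.hom (epsO p _ ≫ lift (cou U.hom H) (str U.hom _) ≫ υ))

theorem map_lift_cou {X : Over U.left} (a : (Over.map U.hom).obj X ⟶ H) :
    (Over.map U.hom).map (toBC U.hom a) ≫ lift (cou U.hom H) (str U.hom _) = lift a (str U.hom X) := by
  rw [comp_lift]
  congr 1
  · exact ((Over.mapPullbackAdj U.hom).homEquiv_counit ..).symm.trans
      (((Over.mapPullbackAdj U.hom).homEquiv X H).symm_apply_apply a)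
  · exact Over.OverMorphism.ext (Over.w (toBC U.hom a))

theorem toBC_bigHom (p : U ⟶ Mo) (υ : H ⊗ U ⟶ G) {X : Over U.left} (a : (Over.map U.hom).obj X ⟶ H) :
    toBC U.hom a ≫ bigHom p υ = toBC p.left (toBC Mo.hom (epsO p X ≫ lift a (str U.hom X) ≫ υ)) := by
  have h0 : (Over.map Mo.hom).map ((Over.map p.left).map (toBC U.hom a)) ≫ epsO p (Red.bc U.hom H) =
      epsO p X ≫ (Over.map U.hom).map (toBC U.hom a) := Over.OverMorphism.ext (by
    show (toBC U.hom a).left ≫ 𝟙 _ = 𝟙 _ ≫ (toBC U.hom a).left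
    rw [Category.comp_id, Category.id_comp])
  rw [bigHom, ← toBC_naturality, ← toBC_naturality, reassoc_of% h0, ← map_lift_cou a, Category.assoc]

theorem left_bigHom_proj (p : U ⟶ Mo) (υ : H ⊗ U ⟶ G) {X : Over U.left} (a : (Over.map U.hom).obj X ⟶ H) :
    (toBC U.hom a).left ≫ (bigHom p υ).left ≫ pullback.fst (Red.bc Mo.hom G).hom p.left ≫ pullback.fst G.hom Mo.hom =
      (lift a (str U.hom X) ≫ υ).left := by
  rw [← Category.assoc, ← Over.comp_left, toBC_bigHom, ← Category.assoc]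
  erw [MTDescent.left_toBC_fst_eq p.left, MTDescent.left_toBC_fst_eq Mo.hom]
  exact Category.id_comp _

variable [GrpObj H]

theorem isMonHom_bigHom (p : U ⟶ Mo) {υ : H ⊗ U ⟶ G} (hυ : AutFam.IsHomFamily H G υ) :
    IsMonHom (bigHom p υ) :=
  MTDescent.isMonHom_of_points _ fun X x y => by
    obtain ⟨a, rfl⟩ := exists_toBC' U.hom x
    obtain ⟨b, rfl⟩ := exists_toBC' U.hom y
    rw [← toBC_mul, toBC_bigHom, toBC_bigHom, toBC_bigHom, hυ, MonObj.comp_mul, toBC_mul, toBC_mul]

omit [GrpObj H] in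
theorem mono_bigHom (p : U ⟶ Mo) {υ : H ⊗ U ⟶ G} (hm : IsMonoFam υ) : Mono (bigHom p υ) :=
  ⟨fun {X} x y e => by
    obtain ⟨a, rfl⟩ := exists_toBC' U.hom x
    obtain ⟨b, rfl⟩ := exists_toBC' U.hom y
    rw [toBC_bigHom, toBC_bigHom] at e
    haveI : IsIso (epsO p X) := by
      haveI : IsIso ((Over.forget S).map (epsO p X)) := inferInstanceAs (IsIso (𝟙 X.left))
      exact isIso_of_reflects_iso (epsO p X) (Over.forget S)
    rw [hm _ a b (str U.hom X) ((cancel_epi (epsO p X)).1 (toBC_inj Mo.hom (toBC_inj p.left e)))]⟩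

/-- The point of the double base change. -/
def pt₃ (p : U ⟶ Mo) {X : Over S} (g : X ⟶ G) (t : X ⟶ U) : X.left ⟶ pullback (Red.bc Mo.hom G).hom p.left :=
  pullback.lift (pt₂ g (t ≫ p)) t.left (by
    show pullback.lift g.left (t ≫ p).left _ ≫ pullback.snd G.hom Mo.hom = _
    rw [pullback.lift_snd]
    rfl)

omit [GrpObj H] in
theorem bigHom_lift_iff (p : U ⟶ Mo) (υ : H ⊗ U ⟶ G) {X : Over S} (g : X ⟶ G) (t : X ⟶ U) :
    (∃ l, l ≫ (bigHom p υ).left = pt₃ p g t) ↔ InIm υ g t := by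
  let Xt : Over U.left := Over.mk t.left
  let ε₀ : (Over.map U.hom).obj Xt ≅ X := Over.isoMk (Iso.refl _) ((Category.id_comp _).trans (Over.w t).symm)
  have hs : str U.hom Xt = ε₀.hom ≫ t := Over.OverMorphism.ext (Category.id_comp _).symm
  have hH : (bigHom p υ).left ≫ pullback.snd (Red.bc Mo.hom G).hom p.left = (Red.bc U.hom H).hom :=
    Over.w (bigHom p υ)
  constructor
  · rintro ⟨l, hl⟩
    let x : Xt ⟶ Red.bc U.hom H := Over.homMk l (by
      show l ≫ (Red.bc U.hom H).hom = t.left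
      rw [← hH, reassoc_of% hl]
      exact pullback.lift_snd _ _ _)
    obtain ⟨a, ha⟩ := exists_toBC' U.hom x
    have h1 : lift a (str U.hom Xt) ≫ υ = ε₀.hom ≫ g := Over.OverMorphism.ext (by
      rw [← left_bigHom_proj p υ a, ha]
      show l ≫ _ = 𝟙 _ ≫ g.left
      rw [← Category.assoc, hl, Category.id_comp]
      simp [pt₃, pt₂])
    refine ⟨ε₀.inv ≫ a, ?_⟩
    rw [← cancel_epi ε₀.hom, ← h1, comp_lift_assoc, Iso.hom_inv_id_assoc, hs]
  · rintro ⟨h, hh⟩
    have h1 : (toBC U.hom (ε₀.hom ≫ h)).left ≫ (bigHom p υ).left ≫ pullback.snd (Red.bc Mo.hom G).hom p.left =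
        t.left := by
      rw [hH]
      exact Over.w (toBC U.hom (ε₀.hom ≫ h))
    refine ⟨(toBC U.hom (ε₀.hom ≫ h)).left, ?_⟩
    apply pullback.hom_ext
    · apply pullback.hom_ext
      · rw [Category.assoc, Category.assoc, left_bigHom_proj, hs, ← comp_lift_assoc, hh]
        simp [pt₃, pt₂, ε₀]
      · rw [Category.assoc, Category.assoc,
          show pullback.fst (Red.bc Mo.hom G).hom p.left ≫ pullback.snd G.hom Mo.hom =
            pullback.snd (Red.bc Mo.hom G).hom p.left ≫ p.left from pullback.condition, reassoc_of% h1]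
        simp [pt₃, pt₂]
    · rw [Category.assoc, h1]
      simp [pt₃]

/-- **Descent of the universal image.** -/
theorem exists_image [IsAffineHom G.hom] (p : U ⟶ Mo) [Flat p.left] [Surjective p.left] [QuasiCompact p.left]
    {υ : H ⊗ U ⟶ G} (hH : SGA3x.IsMultTypeFT H) (hHf : IsFinite H.hom) (hυ : AutFam.IsHomFamily H G υ)
    (hm : IsMonoFam υ)
    (hinv : ∀ {X : Over S} (g : X ⟶ G) (t₁ t₂ : X ⟶ U), t₁ ≫ p = t₂ ≫ p → InIm υ g t₁ → InIm υ g t₂) :
    ∃ (K : Over Mo.left) (_ : GrpObj K) (j : K ⟶ Red.bc Mo.hom G),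
      IsMonHom j ∧ IsClosedImmersion j.left ∧ SGA3x.IsMultTypeFT K ∧ IsFinite K.hom ∧
      ∀ (X : Over S) (g : X ⟶ G) (t : X ⟶ U), InK j g (t ≫ p) ↔ InIm υ g t := by
  let GY : Over Mo.left := Red.bc Mo.hom G
  let B : Over Mo.left := Over.mk p.left
  let j' : Red.bc U.hom H ⟶ Red.bc B.hom GY := bigHom p υ
  have hjm := isMonHom_bigHom p hυ
  haveI : IsMonHom j' := hjm
  have hjo := mono_bigHom p hm
  haveI : Mono j' := hjo
  haveI : Mono j'.left := inferInstanceAs (Mono ((Over.forget _).map j'))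
  haveI := hHf
  haveI : IsFinite (Red.bc U.hom H).hom := inferInstanceAs (IsFinite (pullback.snd H.hom U.hom))
  haveI : IsSeparated GY.hom := inferInstanceAs (IsSeparated (pullback.snd G.hom Mo.hom))
  haveI : IsSeparated (Red.bc B.hom GY).hom := inferInstanceAs (IsSeparated (pullback.snd GY.hom p.left))
  haveI : IsProper (j'.left ≫ (Red.bc B.hom GY).hom) := by rw [Over.w j']; infer_instance
  haveI : IsProper j'.left := IsProper.of_comp j'.left (Red.bc B.hom GY).hom
  haveI : IsClosedImmersion j'.left := (IsClosedImmersion.iff_isProper_and_mono _).2 ⟨inferInstance, inferInstance⟩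
  let qq : pullback GY.hom p.left ⟶ GY.left := pullback.fst GY.hom p.left
  have hcov : ∀ V : Mo.left.Opens, IsAffineOpen V → ∃ W : U.left.Opens, IsCompact (W : Set U.left) ∧
      p.left.base '' (W : Set U.left) = (V : Set Mo.left) := fun V hV =>
    ⟨p.left ⁻¹ᵁ V, QuasiCompact.isCompact_preimage (f := p.left) _ V.2 hV.isCompact, by
      rw [Scheme.Hom.coe_preimage]; exact Set.image_preimage_eq _ p.left.surjective⟩
  have hqq : Presieve.singleton qq ∈ Scheme.fpqcPrecoverage GY.left := by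
    have := Precoverage.mem_coverings_of_isPullback (J := Scheme.fpqcPrecoverage) (fun _ : Unit => p.left)
      (by rw [Presieve.ofArrows_pUnit]; exact MTDescent.singleton_mem p.left hcov) GY.hom (fun _ => qq)
      (fun _ => pullback.snd GY.hom p.left) (fun _ => IsPullback.of_hasPullback GY.hom p.left)
    rwa [Presieve.ofArrows_pUnit] at this
  have hstab : ∀ {W : Scheme.{u}} (w₁ w₂ : W ⟶ pullback GY.hom p.left), w₁ ≫ qq = w₂ ≫ qq →
      (∃ l, l ≫ j'.left = w₁) → ∃ l, l ≫ j'.left = w₂ := by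
    intro W w₁ w₂ e hl
    let X : Over S := Over.mk (w₁ ≫ qq ≫ pullback.fst G.hom Mo.hom ≫ G.hom)
    let g : X ⟶ G := Over.homMk (w₁ ≫ qq ≫ pullback.fst G.hom Mo.hom)
    have hpw : ∀ w : W ⟶ pullback GY.hom p.left, (w ≫ pullback.snd GY.hom p.left) ≫ U.hom =
        w ≫ qq ≫ pullback.fst G.hom Mo.hom ≫ G.hom := by
      intro w
      rw [← Over.w p, Category.assoc, ← pullback.condition_assoc, pullback.condition]
      rfl
    let t₁ : X ⟶ U := Over.homMk (w₁ ≫ pullback.snd GY.hom p.left) (hpw w₁)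
    let t₂ : X ⟶ U := Over.homMk (w₂ ≫ pullback.snd GY.hom p.left) ((hpw w₂).trans (by
      show _ = w₁ ≫ qq ≫ _
      rw [reassoc_of% e]))
    have hP : ∀ (w : W ⟶ pullback GY.hom p.left) (t : X ⟶ U), w ≫ qq = w₁ ≫ qq →
        t.left = w ≫ pullback.snd GY.hom p.left → pt₃ p g t = w := by
      intro w t he ht
      apply pullback.hom_ext
      · apply pullback.hom_ext
        · simp only [pt₃, pt₂, pullback.lift_fst]
          show w₁ ≫ qq ≫ pullback.fst G.hom Mo.hom = _
          rw [Category.assoc, ← reassoc_of% he]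
        · rw [show (w ≫ pullback.fst GY.hom p.left) ≫ pullback.snd G.hom Mo.hom =
            (w ≫ pullback.snd GY.hom p.left) ≫ p.left from by
              rw [Category.assoc, Category.assoc]; exact congrArg (w ≫ ·) pullback.condition]
          simp [pt₃, pt₂, ht]
      · simp [pt₃, ht]; rfl
    have h2 := bigHom_lift_iff p υ g t₂
    rw [hP w₂ t₂ e.symm rfl] at h2
    refine h2.2 (hinv g t₁ t₂ (Over.OverMorphism.ext ?_) ?_)
    · show (w₁ ≫ _) ≫ p.left = (w₂ ≫ _) ≫ p.left
      rw [Category.assoc, Category.assoc, ← pullback.condition, reassoc_of% e]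
    · have h1 := bigHom_lift_iff p υ g t₁
      rw [hP w₁ t₁ rfl rfl] at h1
      exact h1.1 hl
  obtain ⟨Z, i, hi, e, he⟩ := MTDescent.exists_descend_immersion qq hqq j'.left hstab
  haveI := hi
  haveI : Flat B.hom := inferInstanceAs (Flat p.left)
  haveI : Surjective B.hom := inferInstanceAs (Surjective p.left)
  obtain ⟨hK, jK, hjK, hji, hKm, φ, hφ⟩ := MTDescent.exists_subgroup_of_descended (G := GY) (B := B) hcov
    (isMultTypeFT_bc _ U.hom hH) j' i inferInstance e he
  let K : Over Mo.left := Over.mk (i ≫ GY.hom)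
  have hKfin : IsFinite K.hom := by
    refine MorphismProperty.of_pullback_snd_of_descendsAlong (P := @IsFinite)
      (Q := @Surjective ⊓ @Flat ⊓ @QuasiCompact) (f := K.hom) (g := p.left)
      ⟨⟨inferInstance, inferInstance⟩, inferInstance⟩ ?_
    have h0 : φ.hom.left ≫ (Red.bc U.hom H).hom = pullback.snd K.hom p.left := Over.w φ.hom
    haveI : IsIso φ.hom.left := ((Over.forget _).mapIso φ).isIso_hom
    rw [← h0]
    exact inferInstanceAs (IsFinite (φ.hom.left ≫ (Red.bc U.hom H).hom))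
  haveI := hKfin
  haveI : IsImmersion jK.left := by rw [hji]; infer_instance
  haveI : IsProper (jK.left ≫ GY.hom) := by rw [Over.w jK]; infer_instance
  haveI : IsProper jK.left := IsProper.of_comp jK.left GY.hom
  refine ⟨K, hK, jK, hjK, (IsClosedImmersion.iff_isProper_and_mono _).2 ⟨inferInstance, inferInstance⟩,
    hKm, hKfin, fun X g t => ?_⟩
  rw [← bigHom_lift_iff p]
  constructor
  · rintro ⟨l, hl⟩
    rw [hji] at hl
    refine ⟨pullback.lift (pt₃ p g t) l ((pullback.lift_fst _ _ _).trans hl.symm) ≫ e.hom, ?_⟩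
    rw [Category.assoc, he]
    exact pullback.lift_fst _ _ _
  · rintro ⟨l, hl⟩
    refine ⟨l ≫ e.inv ≫ pullback.snd qq i, ?_⟩
    rw [hji, Category.assoc, Category.assoc, ← pullback.condition, ← he, Category.assoc, e.inv_hom_id_assoc,
      reassoc_of% hl]
    exact pullback.lift_fst _ _ _

end Image

end Groth.Agent.GrpSubRep
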