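import Groth.Agent.GrpSubRep.Fibres
import Groth.Prelude.Def_Mor2

/-!
# Subgroups of multiplicative type of the type of a given finite one
-/

set_option autoImplicit false
set_option linter.style.haveILetI false
set_option linter.unusedSectionVars false
set_option backward.isDefEq.respectTransparency false
set_option maxHeartbeats 1000000
set_option synthInstance.maxHeartbeats 400000

universe u

open CategoryTheory Limits MonoidalCategory CartesianMonoidalCategory AlgebraicGeometry
open scoped CategoryTheory.Obj MonObj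

noncomputable section

namespace Groth.Agent.GrpSubRep

open Groth.Agent.MTBridge

variable {S : Scheme.{u}}

theorem geomPt_closedPoint (s : S) :
    Red.geomPt s (IsLocalRing.closedPoint (AlgebraicClosure (S.residueField s))) = s := by
  simp [Red.geomPt]
  exact Scheme.fromSpecResidueField_apply s _

/-- A subgroup of a group, as a subgroup of its trivial base change. -/
theorem exists_toBC_id (G H : Over S) [GrpObj G] [GrpObj H] [IsSeparated G.hom] (i : H ⟶ G) [IsMonHom i] [Mono i]
    [IsFinite H.hom] :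
    ∃ j' : H ⟶ Red.bc (𝟙 S) G, IsMonHom j' ∧ IsImmersion j'.left := by
  let j' : H ⟶ Red.bc (𝟙 S) G := Over.homMk (pullback.lift i.left H.hom (by rw [Category.comp_id]; exact Over.w i))
    (pullback.lift_snd _ _ _)
  let ε : ∀ X : Over S, (Over.map (𝟙 S)).obj X ⟶ X := fun X => Over.homMk (𝟙 X.left)
  have hj : ∀ {X : Over S} (z : X ⟶ H), z ≫ j' = toBC (𝟙 S) (ε X ≫ z ≫ i) := by
    intro X z
    apply Over.OverMorphism.ext
    apply pullback.hom_ext
    · rw [MTDescent.left_toBC_fst_eq]
      simp [j', ε]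
    · exact (Over.w (z ≫ j')).trans (Over.w (toBC (𝟙 S) _)).symm
  refine ⟨j', MTDescent.isMonHom_of_points _ fun X x y => ?_, ?_⟩
  · rw [hj, hj, hj, MonObj.mul_comp, MonObj.comp_mul, toBC_mul]
  · haveI : Mono i.left := inferInstanceAs (Mono ((Over.forget _).map i))
    haveI : Mono j'.left := ⟨fun {W} a b e => by
      rw [← cancel_mono i.left]
      have h := congrArg (fun z => z ≫ pullback.fst G.hom (𝟙 S)) e
      simpa [j'] using h⟩
    haveI : IsSeparated (Red.bc (𝟙 S) G).hom := inferInstanceAs (IsSeparated (pullback.snd G.hom (𝟙 S)))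
    haveI : IsProper (j'.left ≫ (Red.bc (𝟙 S) G).hom) := by rw [Over.w j']; infer_instance
    haveI : IsProper j'.left := IsProper.of_comp j'.left (Red.bc (𝟙 S) G).hom
    haveI : IsClosedImmersion j'.left := (IsClosedImmersion.iff_isProper_and_mono _).2 ⟨inferInstance, inferInstance⟩
    infer_instance

variable (G H : Over S) [GrpObj G] [GrpObj H]

/-- **Representability of the twists of a finite subgroup of multiplicative type.** -/
theorem exists_twistScheme [IsAffineHom G.hom] [LocallyOfFinitePresentation G.hom] (i : H ⟶ G) [IsMonHom i]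
    [Mono i] (hH : SGA3x.IsMultTypeFT H) (hHf : ∀ s : S, IsFinite (H.hom.fiberToSpecResidueField s)) :
    ∃ (M : Over S) (Hu : Over M.left) (_ : GrpObj Hu) (hu : Hu ⟶ Red.bc M.hom G) (_ : IsMonHom hu) (_ : Mono hu),
      Mor2.IsQuasiAffine M.hom ∧ LocallyOfFinitePresentation M.hom ∧ SGA3x.IsMultTypeFT Hu ∧
      (∀ m : ↥M.left, Nonempty (Grp.mk (Red.geomFibre m Hu) ≅ Grp.mk (Red.bc (Red.geomPt m ≫ M.hom) H))) ∧
      ∀ (S' : Scheme.{u}) (f : S' ⟶ S) (H' : Over S') [GrpObj H'] (h' : H' ⟶ Red.bc f G) [IsMonHom h'] [Mono h'],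
        SGA3x.IsMultTypeFT H' →
        (∀ s' : S', Nonempty (Grp.mk (Red.geomFibre s' H') ≅ Grp.mk (Red.bc (Red.geomPt s' ≫ f) H))) →
        ∃! g : S' ⟶ M.left, g ≫ M.hom = f ∧ RedSub.SamePoints G f h' M hu g := by
  have hfinH : IsFinite H.hom := isFinite_of_points hH fun s =>
    ⟨_, S.fromSpecResidueField s, ⟨IsLocalRing.closedPoint _, Scheme.fromSpecResidueField_apply s _⟩, hHf s⟩
  haveI := hfinH
  letI : ∀ i, GrpObj (piece G i).K := fun i => (piece G i).grp
  haveI : ∀ i, IsMonHom (piece G i).j := fun i => (piece G i).isMonHom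
  haveI : ∀ i, Mono (piece G i).j.left := mono_piece G
  haveI hm := mono_uj G
  obtain ⟨hG, hj⟩ := exists_grpObj_sigK (fun i : Typ.{u} => (piece G i).K) fun i => (piece G i).j
  haveI := hj
  have hmt : SGA3x.IsMultTypeFT (UK G) := isMultTypeFT_sigK (fun i : Typ.{u} => (piece G i).K)
    (fun i => (piece G i).j) fun i => (piece G i).multType
  haveI : IsFinite (UK G).hom := isFinite_sigK _ fun i => (piece G i).finite
  haveI : IsSeparated (Red.bc (Par G).hom G).hom := inferInstanceAs (IsSeparated (pullback.snd G.hom (Par G).hom))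
  haveI : IsProper ((uj G).left ≫ (Red.bc (Par G).hom G).hom) := by rw [Over.w (uj G)]; infer_instance
  haveI : IsProper (uj G).left := IsProper.of_comp (uj G).left (Red.bc (Par G).hom G).hom
  haveI : IsClosedImmersion (uj G).left := (IsClosedImmersion.iff_isProper_and_mono _).2 ⟨inferInstance, inferInstance⟩
  haveI : IsImmersion (uj G).left := inferInstance
  -- the point classifying `H`
  obtain ⟨jH, hjH, hjHi⟩ := exists_toBC_id G H i
  haveI := hjH
  haveI := hjHi
  let S₀ : Over S := Over.mk (𝟙 S)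
  obtain ⟨vH, hvH⟩ := exists_point G (T := S₀) jH hH hfinH
  have hvHs : vH.left ≫ (Par G).hom = 𝟙 S := Over.w vH
  have fibH : ∀ {Z : Scheme.{u}} (c : Z ⟶ S),
      Nonempty (Grp.mk (Red.bc c H) ≅ Grp.mk (Red.bc (c ≫ vH.left) (UK G))) := by
    intro Z c
    haveI : Mono jH := (Over.forget _).mono_of_mono_map (inferInstanceAs (Mono jH.left))
    have hp := MTDescent.isMonHom_pullMap (uj G) vH
    haveI : IsMonHom (pullUK vH) := hp
    haveI := mono_pullUK vH
    obtain ⟨e⟩ := nonempty_grpIso_of_inK_iff (M := S₀) jH (pullUK vH) fun X g t =>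
      (hvH X g t).trans (inK_pullMap_iff (uj G) vH g t).symm
    exact ⟨bcMapIso c e ≪≫ (bcComp vH.left c (UK G)).symm⟩
  -- the open subscheme of the right type
  let Si : Typ.{u} → S.Opens := fun j => vH.left ⁻¹ᵁ comp G j
  let Up : (Par G).left.Opens := ⨆ j, comp G j ⊓ (Par G).hom ⁻¹ᵁ Si j
  have hUp : ∀ m, m ∈ Up ↔ typ m = typ (vH.left ((Par G).hom m)) := by
    intro m
    constructor
    · intro h
      obtain ⟨j, h₁, h₂⟩ := TopologicalSpace.Opens.mem_iSup.1 h
      rw [(mem_comp_iff j m).1 h₁, (mem_comp_iff j (vH.left ((Par G).hom m))).1 h₂]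
    · intro h
      exact TopologicalSpace.Opens.mem_iSup.2 ⟨typ m, (mem_comp_iff _ m).2 rfl, (mem_comp_iff _ _).2 h.symm⟩
  let M₀ : Over S := Over.mk (Up.ι ≫ (Par G).hom)
  let uU : M₀ ⟶ Par G := Over.homMk Up.ι
  have hu₁ := MTDescent.isMonHom_pullMap (uj G) uU
  haveI : IsMonHom (pullUK uU) := hu₁
  haveI := mono_pullUK uU
  have haff : IsAffineHom M₀.hom := by
    refine isAffineHom_of_forall_exists_isAffineOpen _ fun s => ?_
    let j := typ (vH.left s)
    obtain ⟨V, hV, hsV, hVS⟩ := exists_isAffineOpen_mem_and_subset (U := Si j) (x := s)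
      ((mem_comp_iff j (vH.left s)).2 rfl)
    refine ⟨V, hsV, hV, ?_⟩
    let ιj := Sigma.ι (fun i : Typ.{u} => (piece G i).Mo.left) j
    haveI := (piece G j).affine
    have h1 : IsAffineOpen (ιj ''ᵁ ((piece G j).Mo.hom ⁻¹ᵁ V)) :=
      (hV.preimage (piece G j).Mo.hom).image_of_isOpenImmersion ιj
    have hι : ∀ y, (Par G).hom (ιj y) = (piece G j).Mo.hom y := fun y => by
      show (ιj ≫ Sigma.desc fun i : Typ.{u} => (piece G i).Mo.hom) y = _
      rw [Sigma.ι_desc]
    have hle : ιj ''ᵁ ((piece G j).Mo.hom ⁻¹ᵁ V) ≤ Up := by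
      rintro _ ⟨y, hy, rfl⟩
      refine (hUp _).2 (((mem_comp_iff j (ιj y)).1 ⟨y, rfl⟩).trans ((mem_comp_iff j _).1 ?_).symm)
      show vH.left ((Par G).hom (ιj y)) ∈ comp G j
      rw [hι]
      exact hVS hy
    have heq : M₀.hom ⁻¹ᵁ V = Up.ι ⁻¹ᵁ (ιj ''ᵁ ((piece G j).Mo.hom ⁻¹ᵁ V)) := by
      ext m
      constructor
      · intro hm
        have hm' : typ (m : Up).1 = j :=
          ((hUp (m : Up).1).1 (m : Up).2).trans ((mem_comp_iff j _).1 (hVS hm))
        obtain ⟨y, hy⟩ := (mem_comp_iff j (m : Up).1).2 hm'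
        refine ⟨y, ?_, hy⟩
        show (piece G j).Mo.hom y ∈ V
        rw [← hι, hy]
        exact hm
      · rintro ⟨y, hy, hym⟩
        show (Par G).hom (Up.ι m) ∈ V
        exact Set.mem_of_eq_of_mem ((congrArg (fun z => (Par G).hom z) hym.symm).trans (hι y)) hy
    rw [heq]
    exact h1.preimage_of_isOpenImmersion Up.ι (by rw [Scheme.Opens.opensRange_ι]; exact hle)
  haveI := haff
  refine ⟨M₀, Red.bc Up.ι (UK G), inferInstance, pullUK uU, inferInstance, inferInstance, ?_, ?_,
    isMultTypeFT_bc _ Up.ι hmt, fun m => ?_, ?_⟩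
  · refine ⟨inferInstance, fun V hV => ?_⟩
    haveI : IsAffine (M₀.hom ⁻¹ᵁ V : Scheme.{u}) := hV.preimage M₀.hom
    infer_instance
  · haveI : LocallyOfFinitePresentation (Par G).hom := IsZariskiLocalAtSource.sigmaDesc fun i => (piece G i).lfp
    show LocallyOfFinitePresentation (Up.ι ≫ (Par G).hom)
    infer_instance
  · obtain ⟨eH⟩ := fibH (Red.geomPt m ≫ M₀.hom)
    let c := Red.geomPt m ≫ M₀.hom
    let v₁ : Over.mk c ⟶ Par G := Over.homMk (Red.geomPt m ≫ Up.ι) (by simp [c, M₀])
    let v₂ : Over.mk c ⟶ Par G := Over.homMk (c ≫ vH.left) (by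
      show (c ≫ vH.left) ≫ (Par G).hom = c
      rw [Category.assoc, hvHs, Category.comp_id])
    have ht : typ (v₁.left (IsLocalRing.closedPoint _)) = typ (v₂.left (IsLocalRing.closedPoint _)) := by
      show typ (Up.ι (Red.geomPt m _)) = typ (vH.left ((Par G).hom (Up.ι (Red.geomPt m _))))
      rw [geomPt_closedPoint]
      exact (hUp _).1 m.2
    obtain ⟨e⟩ := (nonempty_iso_iff_typ v₁ v₂).2 ht
    exact ⟨(bcComp Up.ι (Red.geomPt m) (UK G)).symm ≪≫ e ≪≫ eH.symm⟩
  · intro S' f H' _ h' _ _ hH' hfib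
    have hfin' : IsFinite H'.hom := isFinite_of_points hH' fun s' => by
      refine ⟨_, Red.geomPt s', ⟨IsLocalRing.closedPoint _, geomPt_closedPoint s'⟩, ?_⟩
      obtain ⟨e⟩ := hfib s'
      haveI : IsIso e.hom.hom.hom.left :=
        inferInstanceAs (IsIso ((Over.forget _).map ((Grp.forget _).map e.hom)))
      haveI : IsFinite (Red.bc (Red.geomPt s' ≫ f) H).hom := MorphismProperty.pullback_snd _ _ hfinH
      rw [show (Red.bc (Red.geomPt s') H').hom = e.hom.hom.hom.left ≫ (Red.bc (Red.geomPt s' ≫ f) H).hom from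
        (Over.w e.hom.hom.hom).symm]
      infer_instance
    haveI := hfin'
    haveI : Mono h'.left := inferInstanceAs (Mono ((Over.forget _).map h'))
    haveI : IsSeparated (Red.bc f G).hom := inferInstanceAs (IsSeparated (pullback.snd G.hom f))
    haveI : IsProper (h'.left ≫ (Red.bc f G).hom) := by rw [Over.w h']; infer_instance
    haveI : IsProper h'.left := IsProper.of_comp h'.left (Red.bc f G).hom
    haveI : IsClosedImmersion h'.left := (IsClosedImmersion.iff_isProper_and_mono _).2 ⟨inferInstance, inferInstance⟩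
    haveI : IsImmersion h'.left := inferInstance
    obtain ⟨v, hv⟩ := exists_point G (T := Over.mk f) h' hH' hfin'
    have hr : Set.range v.left ⊆ Up := by
      rintro _ ⟨s', rfl⟩
      obtain ⟨e⟩ := hfib s'
      obtain ⟨eH⟩ := fibH (Red.geomPt s' ≫ f)
      haveI : Mono h' := inferInstance
      have hp := MTDescent.isMonHom_pullMap (uj G) v
      haveI : IsMonHom (pullUK v) := hp
      haveI := mono_pullUK v
      obtain ⟨e'⟩ := nonempty_grpIso_of_inK_iff (M := Over.mk f) h' (pullUK v) fun X g t =>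
        (hv X g t).trans (inK_pullMap_iff (uj G) v g t).symm
      let c := Red.geomPt s' ≫ f
      let v₁ : Over.mk c ⟶ Par G := Over.homMk (Red.geomPt s' ≫ v.left) (by
        show (Red.geomPt s' ≫ v.left) ≫ (Par G).hom = c
        rw [Category.assoc]
        exact congrArg (Red.geomPt s' ≫ ·) (Over.w v))
      let v₂ : Over.mk c ⟶ Par G := Over.homMk (c ≫ vH.left) (by
        show (c ≫ vH.left) ≫ (Par G).hom = c
        rw [Category.assoc, hvHs, Category.comp_id])
      have ht := (nonempty_iso_iff_typ v₁ v₂).1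
        ⟨bcComp v.left (Red.geomPt s') (UK G) ≪≫ (bcMapIso _ e').symm ≪≫ e ≪≫ eH⟩
      change typ (v.left (Red.geomPt s' _)) = typ (vH.left (f (Red.geomPt s' _))) at ht
      rw [geomPt_closedPoint] at ht
      refine (hUp _).2 (ht.trans ?_)
      rw [show (Par G).hom (v.left s') = f s' from congr($(Over.w v) s')]
    let g := IsOpenImmersion.lift Up.ι v.left (by rw [Scheme.Opens.range_ι]; exact hr)
    have hg : g ≫ M₀.hom = f := by
      show g ≫ Up.ι ≫ (Par G).hom = f
      rw [IsOpenImmersion.lift_fac_assoc]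
      exact Over.w v
    have key : ∀ (g' : S' ⟶ M₀.left) (hg' : g' ≫ M₀.hom = f) (X : Over S) (a : X ⟶ G) (t : X ⟶ Over.mk f),
        InK (pullUK uU) a (t ≫ (Over.homMk g' hg' : Over.mk f ⟶ M₀)) ↔
          InK (uj G) a (t ≫ (Over.homMk g' hg' : Over.mk f ⟶ M₀) ≫ uU) := fun g' hg' X a t => by
      rw [← Category.assoc]
      exact inK_pullMap_iff (uj G) uU a _
    refine ⟨g, ⟨hg, (samePoints_iff f h' (pullUK uU) g hg).2 fun X a t => ?_⟩, ?_⟩
    · rw [key, hv X a t, show (Over.homMk g hg : Over.mk f ⟶ M₀) ≫ uU = v from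
        Over.OverMorphism.ext (IsOpenImmersion.lift_fac _ _ _)]
    · rintro g' ⟨hg', hsame⟩
      have h := (samePoints_iff f h' (pullUK uU) g' hg').1 hsame
      have h5 : (Over.homMk g' hg' : Over.mk f ⟶ M₀) ≫ uU = v := eq_of_inK_iff G _ _ fun X a t =>
        ((key g' hg' X a t).symm.trans (h X a t).symm).trans (hv X a t)
      rw [← cancel_mono Up.ι, IsOpenImmersion.lift_fac]
      exact congrArg CommaMorphism.left h5

end Groth.Agent.GrpSubRep
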