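import Groth.Agent.GrpSubRep.FamSub

/-!
# The parameter scheme of finite subgroups of multiplicative type, and uniqueness
-/

set_option autoImplicit false
set_option linter.style.haveILetI false
set_option linter.unusedSectionVars false
set_option backward.isDefEq.respectTransparency false
set_option maxHeartbeats 1000000
set_option synthInstance.maxHeartbeats 400000

universe u

open CategoryTheory Limits MonoidalCategory CartesianMonoidalCategory AlgebraicGeometry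
open scoped CategoryTheory.Obj MonObj

noncomputable section

namespace Groth.Agent.GrpSubRep

open Groth.Agent.MTBridge

variable {S : Scheme.{u}} (G : Over S) [GrpObj G]

/-- Everything known about one isomorphism type. -/
structure Piece (N : Type) [AddCommGroup N] where
  /-- The parameter scheme. -/
  Mo : Over S
  /-- The universal subgroup. -/
  K : Over Mo.left
  /-- Its structure. -/
  grp : GrpObj K
  /-- Its inclusion. -/
  j : K ⟶ Red.bc Mo.hom G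
  /-- The scheme of monomorphisms. -/
  U : Over S
  /-- The universal monomorphism. -/
  υ : Red.DS S N ⊗ U ⟶ G
  /-- The projection. -/
  p : U ⟶ Mo
  affine : IsAffineHom Mo.hom
  lfp : LocallyOfFinitePresentation Mo.hom
  isMonHom : IsMonHom j
  closed : IsClosedImmersion j.left
  multType : SGA3x.IsMultTypeFT K
  finite : IsFinite K.hom
  etale : Etale p.left
  flat : Flat p.left
  surjective : Surjective p.left
  isHom : AutFam.IsHomFamily (Red.DS S N) G υ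
  mono : IsMonoFam υ
  univ : ∀ (T : Over S) (φ : Red.DS S N ⊗ T ⟶ G), AutFam.IsHomFamily (Red.DS S N) G φ → IsMonoFam φ →
    ∃! a : T ⟶ U, (Red.DS S N ◁ a) ≫ υ = φ
  inK : ∀ (X : Over S) (g : X ⟶ G) (t : X ⟶ U), InK j g (t ≫ p) ↔ InIm υ g t
  orbit : ∀ (T : Over S) (φ : Red.DS S N ⊗ T ⟶ G) (a b : T ⟶ U) (σ : MulAut (Multiplicative N)),
    (Red.DS S N ◁ a) ≫ υ = φ → (Red.DS S N ◁ b) ≫ υ = (Red.DSmap S (toHom σ) ▷ T) ≫ φ → a ≫ p = b ≫ p

theorem nonempty_piece [IsAffineHom G.hom] [LocallyOfFinitePresentation G.hom] (N : Type) [AddCommGroup N]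
    [Finite N] : Nonempty (Piece G N) := by
  obtain ⟨U, υ, hUa, hUf, hhom, hm, huniv⟩ := exists_monoScheme (G := G) N
  obtain ⟨Mo, p, hMa, hMf, het, hfl, hsj, hqc, hinv, horb⟩ := exists_quot hUa hUf hhom hm huniv
  haveI := hfl
  haveI := hsj
  haveI := hqc
  obtain ⟨hN, -, -⟩ := isFinite_DS S N
  obtain ⟨K, hK, j, hj, hjc, hmt, hKf, hiff⟩ := exists_image p (isMultTypeFT_DS S N) hN hhom hm hinv
  exact ⟨⟨Mo, K, hK, j, U, υ, p, hMa, hMf, hj, hjc, hmt, hKf, het, hfl, hsj, hhom, hm, huniv, hiff, horb⟩⟩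

/-- Group structures on finite sets of numbers. -/
def FinAb : Type := Σ d : ℕ, AddCommGroup (Fin d)

/-- The underlying set. -/
def FinAb.Car (a : FinAb) : Type := Fin a.1

instance (a : FinAb) : AddCommGroup a.Car := a.2

instance (a : FinAb) : Finite a.Car := inferInstanceAs (Finite (Fin a.1))

/-- Isomorphism of groups. -/
instance finAbSetoid : Setoid FinAb where
  r a b := Nonempty (a.Car ≃+ b.Car)
  iseqv := ⟨fun _ => ⟨AddEquiv.refl _⟩, fun ⟨e⟩ => ⟨e.symm⟩, fun ⟨e⟩ ⟨e'⟩ => ⟨e.trans e'⟩⟩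

/-- The isomorphism types of finite commutative groups. -/
def Typ : Type u := ULift.{u} (Quotient finAbSetoid)

/-- A group of a given type. -/
def Typ.Car (i : Typ.{u}) : Type := (Quotient.out i.down).Car

instance (i : Typ.{u}) : AddCommGroup i.Car := inferInstanceAs (AddCommGroup (Quotient.out i.down).Car)

instance (i : Typ.{u}) : Finite i.Car := inferInstanceAs (Finite (Quotient.out i.down).Car)

theorem Typ.eq_of_equiv {i i' : Typ.{u}} (e : i.Car ≃+ i'.Car) : i = i' := by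
  refine ULift.ext _ _ ?_
  rw [← Quotient.out_eq i.down, ← Quotient.out_eq i'.down]
  exact Quotient.sound ⟨e⟩

theorem Typ.exists_equiv (M : Type) [AddCommGroup M] [Finite M] : ∃ i : Typ.{u}, Nonempty (i.Car ≃+ M) := by
  let e := Finite.equivFin M
  let a : FinAb := ⟨Nat.card M, Equiv.addCommGroup e.symm⟩
  refine ⟨⟨Quotient.mk _ a⟩, ?_⟩
  obtain ⟨f⟩ := Quotient.mk_out (s := finAbSetoid) a
  exact ⟨f.trans (Equiv.addEquiv e.symm)⟩

variable [IsAffineHom G.hom] [LocallyOfFinitePresentation G.hom]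

/-- The chosen data. -/
def piece (i : Typ.{u}) : Piece G i.Car := (nonempty_piece G i.Car).some

/-- The parameter scheme of all finite subgroups of multiplicative type. -/
abbrev Par : Over S := sigM fun i : Typ.{u} => (piece G i).Mo

/-- The universal subgroup. -/
abbrev UK : Over (Par G).left := sigK fun i : Typ.{u} => (piece G i).K

/-- Its inclusion. -/
abbrev uj : UK G ⟶ Red.bc (Par G).hom G :=
  sigJ (fun i : Typ.{u} => (piece G i).K) fun i => (piece G i).j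

theorem mono_piece (i : Typ.{u}) : Mono (piece G i).j.left := by
  haveI := (piece G i).closed
  infer_instance

theorem mono_uj : Mono (uj G).left := by
  haveI := mono_piece G
  exact mono_sigJ _ _

theorem inK_uj_iff {i : Typ.{u}} {X : Over S} (g : X ⟶ G) (t : X ⟶ (piece G i).U) :
    InK (uj G) g (t ≫ (piece G i).p ≫ inc (fun i => (piece G i).Mo) i) ↔ InIm (piece G i).υ g t := by
  rw [← Category.assoc]
  exact (inK_sigJ_iff (fun i : Typ.{u} => (piece G i).K) (fun i => (piece G i).j) g (t ≫ (piece G i).p)).trans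
    ((piece G i).inK X g t)

theorem DSmap_comp {S : Scheme.{u}} {A B C : Type} [AddCommGroup A] [AddCommGroup B] [AddCommGroup C]
    (θ : B →+ A) (θ' : C →+ B) : Red.DSmap S θ ≫ Red.DSmap S θ' = Red.DSmap S (θ.comp θ') := by
  refine HomDiag.ch_ext fun m => ?_
  rw [← Category.id_comp (Red.DSmap S θ ≫ Red.DSmap S θ'), ← Category.id_comp (Red.DSmap S (θ.comp θ')),
    ← Category.assoc, HomDiag.ch_DSmap, HomDiag.ch_DSmap, HomDiag.ch_DSmap]
  rfl

theorem DSmap_id {S : Scheme.{u}} (A : Type) [AddCommGroup A] :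
    Red.DSmap S (AddMonoidHom.id A) = 𝟙 (Red.DS S A) := by
  refine HomDiag.ch_ext fun m => ?_
  rw [← Category.id_comp (Red.DSmap S (AddMonoidHom.id A)), HomDiag.ch_DSmap]
  rfl

omit [IsAffineHom G.hom] [LocallyOfFinitePresentation G.hom] in
/-- Mutually included images are locally related by a map of characters. -/
theorem exists_transfer {A B : Type} [AddCommGroup A] [AddCommGroup B] {T : Over S} {φ : Red.DS S A ⊗ T ⟶ G}
    {ψ : Red.DS S B ⊗ T ⟶ G} (hφ : AutFam.IsHomFamily (Red.DS S A) G φ)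
    (hψ : AutFam.IsHomFamily (Red.DS S B) G ψ) (hψm : IsMonoFam ψ)
    (h : ∀ (X : Over S) (g : X ⟶ G) (t : X ⟶ T), InIm φ g t → InIm ψ g t) :
    ∃ f : Red.DS S A ⊗ T ⟶ Red.DS S B, AutFam.IsHomFamily (Red.DS S A) (Red.DS S B) f ∧
      lift f (snd _ _) ≫ ψ = φ := by
  obtain ⟨f, hf⟩ := h (Red.DS S A ⊗ T) φ (snd _ _) ⟨fst _ _, by rw [lift_fst_snd, Category.id_comp]⟩
  refine ⟨f, fun X a b t => ?_, hf⟩
  have key : ∀ z : X ⟶ Red.DS S A, lift (lift z t ≫ f) t ≫ ψ = lift z t ≫ φ := fun z => by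
    rw [← hf, comp_lift_assoc, lift_snd]
  refine hψm X _ _ t ?_
  rw [key, hψ, key, key, hφ]

omit [IsAffineHom G.hom] [LocallyOfFinitePresentation G.hom] in
/-- Families of monomorphisms with the same image are locally related by an isomorphism of characters. -/
theorem exists_locally_equiv {A B : Type} [AddCommGroup A] [AddCommGroup B] [AddGroup.FG A] [AddGroup.FG B]
    {T : Over S} {φ : Red.DS S A ⊗ T ⟶ G} {ψ : Red.DS S B ⊗ T ⟶ G}
    (hφ : AutFam.IsHomFamily (Red.DS S A) G φ) (hφm : IsMonoFam φ)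
    (hψ : AutFam.IsHomFamily (Red.DS S B) G ψ) (hψm : IsMonoFam ψ)
    (h : ∀ (X : Over S) (g : X ⟶ G) (t : X ⟶ T), InIm φ g t ↔ InIm ψ g t) (x : T.left) :
    ∃ (T' : Over S) (v : T' ⟶ T), IsOpenImmersion v.left ∧ x ∈ Set.range v.left ∧
      ∃ θ : B ≃+ A, (Red.DS S A ◁ v) ≫ φ = (Red.DSmap S θ.toAddMonoidHom ▷ T') ≫ (Red.DS S B ◁ v) ≫ ψ := by
  obtain ⟨f, hf, hfe⟩ := exists_transfer G hφ hψ hψm fun X g t => (h X g t).1
  obtain ⟨f', hf', hfe'⟩ := exists_transfer G hψ hφ hφm fun X g t => (h X g t).2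
  obtain ⟨T₁, v₁, hv₁, hx₁, θ, hθ⟩ := HomDiag.exists_locally_DSmap hf x
  obtain ⟨x₁, rfl⟩ := hx₁
  obtain ⟨T₂, v₂, hv₂, hx₂, θ', hθ'⟩ :=
    HomDiag.exists_locally_DSmap (HomDiag.isHomFamily_restrict hf' v₁) x₁
  obtain ⟨x₂, rfl⟩ := hx₂
  haveI : Nonempty T₂.left := ⟨x₂⟩
  have ef : ∀ {X : Over S} (a : X ⟶ Red.DS S A) (s : X ⟶ T₂),
      lift (a ≫ Red.DSmap S θ) (s ≫ v₂ ≫ v₁) ≫ ψ = lift a (s ≫ v₂ ≫ v₁) ≫ φ := by
    intro X a s
    have h1 : lift a (s ≫ v₂ ≫ v₁) ≫ f = a ≫ Red.DSmap S θ := by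
      have h0 := congrArg (fun z => lift a (s ≫ v₂) ≫ z) hθ
      simpa only [lift_whiskerLeft_assoc, lift_fst_assoc, Category.assoc] using h0
    rw [← hfe, comp_lift_assoc, h1, lift_snd]
  have ef' : ∀ {X : Over S} (b : X ⟶ Red.DS S B) (s : X ⟶ T₂),
      lift (b ≫ Red.DSmap S θ') (s ≫ v₂ ≫ v₁) ≫ φ = lift b (s ≫ v₂ ≫ v₁) ≫ ψ := by
    intro X b s
    have h1 : lift b (s ≫ v₂ ≫ v₁) ≫ f' = b ≫ Red.DSmap S θ' := by
      have h0 := congrArg (fun z => lift b s ≫ z) hθ'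
      simpa only [lift_whiskerLeft_assoc, lift_fst_assoc, Category.assoc] using h0
    rw [← hfe', comp_lift_assoc, h1, lift_snd]
  have h12 : θ.comp θ' = AddMonoidHom.id A := by
    refine HomDiag.DSmap_inj (T := T₂) (S := S) ?_
    rw [DSmap_id, Category.comp_id, ← DSmap_comp]
    refine hφm _ _ _ (snd _ _ ≫ v₂ ≫ v₁) ?_
    rw [← Category.assoc (fst _ _), ef', ef]
  have h21 : θ'.comp θ = AddMonoidHom.id B := by
    refine HomDiag.DSmap_inj (T := T₂) (S := S) ?_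
    rw [DSmap_id, Category.comp_id, ← DSmap_comp]
    refine hψm _ _ _ (snd _ _ ≫ v₂ ≫ v₁) ?_
    rw [← Category.assoc (fst _ _), ef, ef']
  let e : B ≃+ A :=
    { toFun := θ
      invFun := θ'
      left_inv := fun b => DFunLike.congr_fun h21 b
      right_inv := fun a => DFunLike.congr_fun h12 a
      map_add' := map_add θ }
  refine ⟨T₂, v₂ ≫ v₁, inferInstanceAs (IsOpenImmersion (v₂.left ≫ v₁.left)), ⟨x₂, rfl⟩, e, ?_⟩
  rw [← Category.id_comp ((Red.DS S A ◁ (v₂ ≫ v₁)) ≫ φ),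
    ← Category.id_comp ((Red.DSmap S e.toAddMonoidHom ▷ T₂) ≫ _), ← lift_fst_snd]
  rw [lift_whiskerRight_assoc, lift_whiskerLeft_assoc, lift_whiskerLeft_assoc, ← ef]
  rfl

/-- **The subgroup determines the point.** -/
theorem eq_of_inK_iff {T : Over S} (v₁ v₂ : T ⟶ Par G)
    (h : ∀ (X : Over S) (g : X ⟶ G) (t : X ⟶ T), InK (uj G) g (t ≫ v₁) ↔ InK (uj G) g (t ≫ v₂)) : v₁ = v₂ := by
  have hres : ∀ {T' : Over S} (c : T' ⟶ T), ∀ (X : Over S) (g : X ⟶ G) (t : X ⟶ T'),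
      InK (uj G) g (t ≫ c ≫ v₁) ↔ InK (uj G) g (t ≫ c ≫ v₂) := fun c X g t => by
    simpa only [Category.assoc] using h X g (t ≫ c)
  obtain ⟨𝒰, idx, m₁, hm₁⟩ := exists_pieces v₁
  apply Over.OverMorphism.ext
  refine 𝒰.hom_ext _ _ fun k => ?_
  let c : Over.mk (𝒰.f k ≫ T.hom) ⟶ T := Over.homMk (𝒰.f k)
  show (c ≫ v₁).left = (c ≫ v₂).left
  obtain ⟨𝒱, idx', m₂, hm₂⟩ := exists_pieces (c ≫ v₂)
  refine 𝒱.hom_ext _ _ fun l => ?_
  let d : Over.mk (𝒱.f l ≫ 𝒰.f k ≫ T.hom) ⟶ Over.mk (𝒰.f k ≫ T.hom) := Over.homMk (𝒱.f l)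
  show (d ≫ c ≫ v₁).left = (d ≫ c ≫ v₂).left
  congr 1
  let P₁ := piece G (idx k)
  let P₂ := piece G (idx' l)
  haveI := P₁.flat
  haveI := P₁.surjective
  haveI := P₂.flat
  haveI := P₂.surjective
  let Y := Over.mk (𝒱.f l ≫ 𝒰.f k ≫ T.hom)
  let n₁ : Y ⟶ P₁.Mo := d ≫ m₁ k
  let n₂ : Y ⟶ P₂.Mo := m₂ l
  have e₁ : n₁ ≫ inc (fun i => (piece G i).Mo) (idx k) = d ≫ c ≫ v₁ := (Category.assoc _ _ _).trans (congrArg (d ≫ ·) (hm₁ k))
  have e₂ : n₂ ≫ inc (fun i => (piece G i).Mo) (idx' l) = d ≫ c ≫ v₂ := hm₂ l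
  let q₁ : pullback n₁.left P₁.p.left ⟶ Y.left := pullback.fst _ _
  let q₂ : pullback (q₁ ≫ n₂.left) P₂.p.left ⟶ pullback n₁.left P₁.p.left := pullback.fst _ _
  let Z : Over S := Over.mk (q₂ ≫ q₁ ≫ Y.hom)
  let π : Z ⟶ Y := Over.homMk (q₂ ≫ q₁) (Category.assoc _ _ _)
  let a₁ : Z ⟶ P₁.U := Over.homMk (q₂ ≫ pullback.snd _ _) (by
    show (q₂ ≫ pullback.snd _ _) ≫ P₁.U.hom = q₂ ≫ q₁ ≫ Y.hom
    rw [← Over.w P₁.p, Category.assoc, ← pullback.condition_assoc, Over.w n₁])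
  let a₂ : Z ⟶ P₂.U := Over.homMk (pullback.snd _ _) (by
    show pullback.snd _ _ ≫ P₂.U.hom = q₂ ≫ q₁ ≫ Y.hom
    rw [← Over.w P₂.p, ← pullback.condition_assoc, Category.assoc, Over.w n₂])
  have p₁ : a₁ ≫ P₁.p = π ≫ n₁ := Over.OverMorphism.ext (by
    show (q₂ ≫ pullback.snd _ _) ≫ P₁.p.left = (q₂ ≫ q₁) ≫ n₁.left
    rw [Category.assoc, Category.assoc, ← pullback.condition])
  have p₂ : a₂ ≫ P₂.p = π ≫ n₂ := Over.OverMorphism.ext (by
    show pullback.snd _ _ ≫ P₂.p.left = (q₂ ≫ q₁) ≫ n₂.left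
    rw [← pullback.condition, Category.assoc])
  haveI : Flat π.left := inferInstanceAs (Flat (q₂ ≫ q₁))
  haveI : Surjective π.left := inferInstanceAs (Surjective (q₂ ≫ q₁))
  haveI : Epi π.left := Flat.epi_of_flat_of_surjective π.left
  haveI : Epi π := (Over.forget S).epi_of_epi_map (inferInstanceAs (Epi π.left))
  rw [← cancel_epi π, ← e₁, ← e₂, ← reassoc_of% p₁, ← reassoc_of% p₂]
  -- the two families have the same image
  let φ₁ := (Red.DS S (idx k).Car ◁ a₁) ≫ P₁.υ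
  let φ₂ := (Red.DS S (idx' l).Car ◁ a₂) ≫ P₂.υ
  have hh : ∀ (X : Over S) (g : X ⟶ G) (t : X ⟶ Z), InIm φ₁ g t ↔ InIm φ₂ g t := by
    intro X g t
    have h1 : InIm φ₁ g t ↔ InIm P₁.υ g (t ≫ a₁) :=
      exists_congr fun z => by simp only [φ₁, lift_whiskerLeft_assoc]
    have h2 : InIm φ₂ g t ↔ InIm P₂.υ g (t ≫ a₂) :=
      exists_congr fun z => by simp only [φ₂, lift_whiskerLeft_assoc]
    rw [h1, h2, ← inK_uj_iff, ← inK_uj_iff]
    have h3 := hres (π ≫ d ≫ c) X g t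
    rw [show t ≫ (π ≫ d ≫ c) ≫ v₁ = (t ≫ a₁) ≫ P₁.p ≫ inc (fun i => (piece G i).Mo) (idx k) by
        rw [Category.assoc, Category.assoc, Category.assoc, ← e₁, reassoc_of% p₁],
      show t ≫ (π ≫ d ≫ c) ≫ v₂ = (t ≫ a₂) ≫ P₂.p ≫ inc (fun i => (piece G i).Mo) (idx' l) by
        rw [Category.assoc, Category.assoc, Category.assoc, ← e₂, reassoc_of% p₂]] at h3
    exact h3
  haveI : AddGroup.FG (idx k).Car := inferInstance
  haveI : AddGroup.FG (idx' l).Car := inferInstance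
  have hloc := exists_locally_equiv G (φ := φ₁) (ψ := φ₂) (HomDiag.isHomFamily_restrict P₁.isHom a₁)
    (P₁.mono.restrict a₁) (HomDiag.isHomFamily_restrict P₂.isHom a₂) (P₂.mono.restrict a₂) hh
  apply Over.OverMorphism.ext
  choose T' v hv hxv θ hθ using hloc
  let 𝒲 : Z.left.OpenCover := Scheme.Cover.mkOfCovers Z.left (fun x => (T' x).left) (fun x => (v x).left)
    (fun x => ⟨x, hxv x⟩) fun x => hv x
  refine 𝒲.hom_ext _ _ fun x => ?_
  show (v x ≫ a₁ ≫ P₁.p ≫ inc (fun i => (piece G i).Mo) (idx k)).left =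
    (v x ≫ a₂ ≫ P₂.p ≫ inc (fun i => (piece G i).Mo) (idx' l)).left
  congr 1
  have hcase : ∀ (i₁ i₂ : Typ.{u}) (W : Over S) (b₁ : W ⟶ (piece G i₁).U) (b₂ : W ⟶ (piece G i₂).U)
      (e : i₂.Car ≃+ i₁.Car), (Red.DS S i₁.Car ◁ b₁) ≫ (piece G i₁).υ =
        (Red.DSmap S e.toAddMonoidHom ▷ W) ≫ (Red.DS S i₂.Car ◁ b₂) ≫ (piece G i₂).υ →
      b₁ ≫ (piece G i₁).p ≫ inc (fun i => (piece G i).Mo) i₁ =
        b₂ ≫ (piece G i₂).p ≫ inc (fun i => (piece G i).Mo) i₂ := by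
    intro i₁ i₂ W b₁ b₂ e he
    obtain rfl := Typ.eq_of_equiv e.symm
    have h4 := (piece G i₁).orbit W ((Red.DS S i₁.Car ◁ b₂) ≫ (piece G i₁).υ) b₂ b₁
      (AddEquiv.toMultiplicative e) rfl (by
        rw [he]
        rfl)
    rw [← Category.assoc, ← h4, Category.assoc]
  rw [← Category.assoc (v x) a₁, ← Category.assoc (v x) a₂]
  refine hcase _ _ _ (v x ≫ a₁) (v x ≫ a₂) (θ x) ?_
  have h5 := hθ x
  simp only [φ₁, φ₂, ← whiskerLeft_comp_assoc] at h5
  exact h5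

end Groth.Agent.GrpSubRep
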